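import Cfsg.Agent.TriSix.Main
import Cfsg.Agent.BSWId.Dihedral

/-!
The main theorem stated through an isomorphism of the quotient.
-/

set_option autoImplicit false
set_option linter.unusedSectionVars false

namespace CfsgLib.TriSix

open Subgroup Equiv

theorem false_of_simple {G : Type*} [Group G] [Finite G] [IsSimpleGroup G] {z : G}
    (N : Subgroup ↥(centralizer ({z} : Set G))) [N.Normal]
    (h : LargeExtra.Pre (N.map (centralizer ({z} : Set G)).subtype) z)
    (hext : Cfsg.IsExtraspecial 2 ↥N) (hcard : Nat.card ↥N = 2 ^ 9)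
    {H : Type*} [Group H] (e : ↥(centralizer ({z} : Set G)) ⧸ N ≃* H) (f : H →* Amb)
    (hf : Function.Injective f)
    (htop : ∀ p : Amb, Perm.sign p.1 = 1 → Perm.sign p.2 = 1 → ∃ y, f y = p)
    (hodd : ∃ y, Perm.sign (f y).1 = -1) : False := by
  have heq : ↥N ≃* ↥(N.map (centralizer ({z} : Set G)).subtype) := N.equivMapOfInjective _ (centralizer ({z} : Set G)).subtype_injective
  have hext' : Cfsg.IsExtraspecial 2 ↥(N.map (centralizer ({z} : Set G)).subtype) := LargeExtra.isExtraspecial_equiv heq hext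
  have hcard' : Nat.card ↥(N.map (centralizer ({z} : Set G)).subtype) = 2 ^ 9 := by rw [← hcard, Nat.card_congr heq.toEquiv]
  have hnc : ¬ ∀ a b : G, a * b = b * a := by
    intro hall
    have hZ : Subgroup.center ↥(N.map (centralizer ({z} : Set G)).subtype) = ⊤ :=
      eq_top_iff.2 fun a _ => mem_center_iff.2 fun b => Subtype.ext (hall _ _)
    have h2 := hext'.2
    rw [hZ, card_top, hcard'] at h2
    norm_num at h2
  let φ : ↥(centralizer ({z} : Set G)) →* Amb := f.comp (e.toMonoidHom.comp (QuotientGroup.mk' N))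
  have hker : φ.ker = (N.map (centralizer ({z} : Set G)).subtype).subgroupOf (centralizer ({z} : Set G)) := by
    rw [Subgroup.subgroupOf, comap_map_eq_self_of_injective (centralizer ({z} : Set G)).subtype_injective]
    ext y
    rw [MonoidHom.mem_ker, MonoidHom.comp_apply, map_eq_one_iff f hf, MonoidHom.comp_apply,
      MulEquiv.coe_toMonoidHom, MulEquiv.map_eq_one_iff, QuotientGroup.mk'_apply,
      QuotientGroup.eq_one_iff]
  have hsurj : ∀ y, ∃ c, φ c = f y := fun y => by
    obtain ⟨c, hc⟩ := QuotientGroup.mk'_surjective N (e.symm y)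
    exact ⟨c, by simp only [φ, MonoidHom.comp_apply, hc, MulEquiv.coe_toMonoidHom, e.apply_symm_apply]⟩
  refine false_of h hext' (CfsgLib.BSWId.pResidual_eq_top hnc) hcard' φ hker (fun p h1 h2 => ?_) ?_
  · obtain ⟨y, rfl⟩ := htop p h1 h2
    exact hsurj y
  · obtain ⟨y, hy⟩ := hodd
    obtain ⟨c, hc⟩ := hsurj y
    exact ⟨c, by rw [hc]; exact hy⟩

end CfsgLib.TriSix
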