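import Mathlib

/-!
Facts on the alternating group of degree 6 and its linear actions on groups of order at most 16.
-/

set_option autoImplicit false
set_option linter.unusedSectionVars false

namespace CfsgLib.TriSix

open Equiv Subgroup

/-- The alternating group of degree 6. -/
abbrev Alt6 : Type := ↥(alternatingGroup (Fin 6))

/-- A fixed double transposition. -/
def g₀ : Alt6 := ⟨swap 0 1 * swap 2 3, Perm.mem_alternatingGroup.2 (by decide)⟩

theorem g₀_sq : g₀ * g₀ = 1 ∧ g₀ ≠ 1 := by decide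

theorem card_alt6 : Nat.card Alt6 = 360 := by
  rw [Nat.card_eq_fintype_card]
  decide +kernel

theorem cycleType_eq : ∀ g : Perm (Fin 6), g * g = 1 → Perm.sign g = 1 → g ≠ 1 →
    g.cycleType = (g₀ : Perm (Fin 6)).cycleType := by decide +kernel

theorem conj_g₀ {g : Alt6} (hg : g * g = 1) (hg1 : g ≠ 1) : ∃ γ : Alt6, γ * g₀ * γ⁻¹ = g := by
  refine isConj_iff.1 (alternatingGroup.isConj_of ?_ (by decide))
  exact Perm.isConj_iff_cycleType_eq.2 (cycleType_eq g.1 (congrArg Subtype.val hg)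
    (Perm.mem_alternatingGroup.1 g.2) (fun e => hg1 (Subtype.ext e))).symm

theorem invol_conj {g h : Alt6} (hg : g * g = 1) (hg1 : g ≠ 1) (hh : h * h = 1) (hh1 : h ≠ 1) :
    ∃ γ : Alt6, γ * g * γ⁻¹ = h := by
  obtain ⟨a, rfl⟩ := conj_g₀ hg hg1
  obtain ⟨b, rfl⟩ := conj_g₀ hh hh1
  exact ⟨b * a⁻¹, by group⟩

/-- Transport of a statement from the fixed involution. -/
theorem of_g₀ (P : Alt6 → Prop) (h0 : P g₀) (hP : ∀ γ g, P g → P (γ * g * γ⁻¹)) {g : Alt6}
    (hg : g * g = 1) (hg1 : g ≠ 1) : P g := by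
  obtain ⟨γ, rfl⟩ := conj_g₀ hg hg1
  exact hP γ _ h0

theorem partner_g₀ : ∃ h : Alt6, h * h = 1 ∧ h ≠ 1 ∧ h ≠ g₀ ∧ g₀ * h = h * g₀ :=
  ⟨⟨swap 0 2 * swap 1 3, Perm.mem_alternatingGroup.2 (by decide)⟩, by decide, by decide, by decide, by decide⟩

theorem exists_partner {g : Alt6} (hg : g * g = 1) (hg1 : g ≠ 1) :
    ∃ h : Alt6, h * h = 1 ∧ h ≠ 1 ∧ h ≠ g ∧ g * h = h * g := by
  refine of_g₀ (fun g => ∃ h : Alt6, h * h = 1 ∧ h ≠ 1 ∧ h ≠ g ∧ g * h = h * g) partner_g₀ ?_ hg hg1
  rintro γ g ⟨h, h1, h2, h3, h4⟩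
  have e : ∀ a : Alt6, γ * a * γ⁻¹ = MulAut.conj γ a := fun a => rfl
  refine ⟨γ * h * γ⁻¹, ?_, ?_, ?_, ?_⟩
  · rw [e, ← map_mul, h1, map_one]
  · rw [e, ne_eq, MulEquiv.map_eq_one_iff]; exact h2
  · rw [e, e, ne_eq, EquivLike.apply_eq_iff_eq]; exact h3
  · rw [e, e, ← map_mul, ← map_mul, h4]

theorem cent_g₀ : (Finset.univ.filter fun s : Alt6 => s * g₀ = g₀ * s).card = 8 ∧
    (Finset.univ.filter fun s : Alt6 => s * g₀ = g₀ * s ∧ s * s = 1).card = 6 := by decide +kernel

theorem square_g₀ : (∀ s : Alt6, s * g₀ = g₀ * s → s * s = 1 ∨ s * s = g₀) ∧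
    ∃ r : Alt6, r * g₀ = g₀ * r ∧ r * r = g₀ := by decide +kernel

theorem card_cent {g : Alt6} (hg : g * g = 1) (hg1 : g ≠ 1) :
    Nat.card ↥(centralizer ({g} : Set Alt6)) = 8 ∧
      Nat.card {s : Alt6 // s * g = g * s ∧ s * s = 1} = 6 := by
  refine of_g₀ (fun g => Nat.card ↥(centralizer ({g} : Set Alt6)) = 8 ∧
    Nat.card {s : Alt6 // s * g = g * s ∧ s * s = 1} = 6) ?_ ?_ hg hg1
  · constructor
    · rw [Nat.card_congr (Equiv.subtypeEquivRight fun s => mem_centralizer_singleton_iff),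
        Nat.card_eq_fintype_card, Fintype.card_subtype]
      exact cent_g₀.1
    · rw [Nat.card_eq_fintype_card, Fintype.card_subtype]
      exact cent_g₀.2
  · rintro γ g ⟨h1, h2⟩
    have hc : ∀ s : Alt6, MulAut.conj γ s * (γ * g * γ⁻¹) = γ * g * γ⁻¹ * MulAut.conj γ s ↔
        s * g = g * s := fun s => by
      rw [← MulAut.conj_apply, ← map_mul, ← map_mul, EquivLike.apply_eq_iff_eq]
    refine ⟨?_, ?_⟩
    · rw [← h1]
      refine (Nat.card_congr (Equiv.subtypeEquiv (MulAut.conj γ).toEquiv fun s => ?_)).symm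
      rw [mem_centralizer_singleton_iff, mem_centralizer_singleton_iff]
      exact (hc s).symm
    · refine Eq.trans ?_ h2
      refine (Nat.card_congr (Equiv.subtypeEquiv (MulAut.conj γ).toEquiv fun s => ?_)).symm
      refine and_congr (hc s).symm ?_
      show s * s = 1 ↔ MulAut.conj γ s * MulAut.conj γ s = 1
      rw [← map_mul, MulEquiv.map_eq_one_iff]

/-- The centralizer of an involution is its own normalizer. -/
theorem norm_cent {g : Alt6} (hg : g * g = 1) (hg1 : g ≠ 1) {n : Alt6}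
    (hn : ∀ s, s * g = g * s → n * s * n⁻¹ * g = g * (n * s * n⁻¹)) : n * g = g * n := by
  obtain ⟨γ, rfl⟩ := conj_g₀ hg hg1
  obtain ⟨hsq, r, hr, hrr⟩ := square_g₀
  have e : ∀ a : Alt6, γ * a * γ⁻¹ = MulAut.conj γ a := fun a => rfl
  have h1 := hn (γ * r * γ⁻¹) (by rw [e, e, ← map_mul, ← map_mul, hr])
  set m := γ⁻¹ * n * γ with hm
  have hn' : n = γ * m * γ⁻¹ := by rw [hm]; group
  have h2 : MulAut.conj γ ((m * r * m⁻¹) * g₀) = MulAut.conj γ (g₀ * (m * r * m⁻¹)) := by
    simp only [map_mul, map_inv]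
    simp only [← e, ← hn']
    exact h1
  have h3 := hsq _ ((MulAut.conj γ).injective h2)
  have h4 : (m * r * m⁻¹) * (m * r * m⁻¹) = m * g₀ * m⁻¹ := by rw [← hrr]; group
  rw [h4] at h3
  rcases h3 with h3 | h3
  · exact absurd (conj_eq_one_iff.1 h3) g₀_sq.2
  · rw [hn', e, e, ← map_mul, ← map_mul, mul_inv_eq_iff_eq_mul.1 h3]

/-- Two subgroups of order 8 of a subgroup are conjugate in it. -/
theorem conj_eight {M S T : Subgroup Alt6} (hS : S ≤ M) (hT : T ≤ M) (hS8 : Nat.card S = 8)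
    (hT8 : Nat.card T = 8) : ∃ m ∈ M, ∀ t ∈ T, m * t * m⁻¹ ∈ S := by
  haveI : Fact (Nat.Prime 2) := ⟨Nat.prime_two⟩
  have hMd : Nat.card M ∣ 360 := card_alt6 ▸ card_subgroup_dvd_card M
  have hf : (Nat.card M).factorization 2 ≤ 3 := by
    have := (Nat.factorization_le_iff_dvd Nat.card_pos.ne' (by norm_num)).2 hMd 2
    refine this.trans (le_of_eq ?_)
    rw [show (360 : ℕ) = 2 ^ 3 * 45 by norm_num,
      Nat.factorization_mul_apply_of_coprime (by norm_num), Nat.factorization_pow_self Nat.prime_two,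
      Nat.factorization_eq_zero_of_not_dvd (by norm_num : ¬ 2 ∣ 45)]
  have key : ∀ R : Subgroup Alt6, R ≤ M → Nat.card R = 8 →
      Nat.card ↥(R.subgroupOf M) = 2 ^ (Nat.card M).factorization 2 := by
    intro R hR hR8
    have h1 : Nat.card ↥(R.subgroupOf M) = 8 :=
      (Nat.card_congr (subgroupOfEquivOfLe hR).toEquiv).trans hR8
    have h3 : 2 ^ 3 ∣ Nat.card M := by
      have := card_dvd_of_le hR
      rwa [hR8] at this
    have h4 := (Nat.Prime.pow_dvd_iff_le_factorization Nat.prime_two Nat.card_pos.ne').1 h3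
    rw [h1, le_antisymm hf h4]
    rfl
  let PS : Sylow 2 M := Sylow.ofCard (S.subgroupOf M) (key S hS hS8)
  let PT : Sylow 2 M := Sylow.ofCard (T.subgroupOf M) (key T hT hT8)
  obtain ⟨m, hm⟩ := MulAction.exists_smul_eq M PT PS
  refine ⟨m, m.2, fun t ht => ?_⟩
  have h1 : MulAut.conj m ⟨t, hT ht⟩ ∈ (PS : Subgroup M) := by
    rw [← hm, Sylow.coe_subgroup_smul]
    exact smul_mem_pointwise_smul _ _ _ (show (⟨t, hT ht⟩ : M) ∈ T.subgroupOf M from ht)
  exact h1

/-- Conjugate elementary subgroups of order four inside one centralizer of an involution coincide. -/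
theorem four_eq {k : Alt6} (hk : k * k = 1) (hk1 : k ≠ 1) {W : Subgroup Alt6} (hW4 : Nat.card W = 4)
    (hWk : W ≤ centralizer ({k} : Set Alt6)) {γ : Alt6}
    (hγ : ∀ w ∈ W, γ * w * γ⁻¹ ∈ centralizer ({k} : Set Alt6)) :
    ∀ w ∈ W, γ * w * γ⁻¹ ∈ W := by
  set S := centralizer ({k} : Set Alt6)
  set f : Alt6 →* Alt6 := (MulAut.conj γ).toMonoidHom
  set W' := W.map f
  have hW'S : W' ≤ S := by
    rintro _ ⟨w, hw, rfl⟩
    exact hγ w hw
  have hS8 : Nat.card S = 8 := (card_cent hk hk1).1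
  have hnorm : ∀ V : Subgroup Alt6, V ≤ S → Nat.card V = 4 → S ≤ normalizer (V : Set Alt6) := by
    intro V hVS hV4
    haveI : (V.subgroupOf S).Normal := Subgroup.normal_of_index_eq_two (by
      have := (V.subgroupOf S).card_mul_index
      rw [Nat.card_congr (subgroupOfEquivOfLe hVS).toEquiv, hV4, hS8] at this
      omega)
    exact (normal_subgroupOf_iff_le_normalizer hVS).1 inferInstance
  have hW'4 : Nat.card W' = 4 := by
    rw [← hW4]
    exact card_map_of_injective (MulAut.conj γ).injective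
  have hW'conj : S.map f ≤ normalizer (W' : Set Alt6) := (map_mono (hnorm W hWk hW4)).trans
    (le_normalizer_map f)
  obtain ⟨δ, hδ, hδS⟩ := conj_eight (hnorm W' hW'S hW'4) hW'conj hS8 (by
    rw [← hS8]; exact card_map_of_injective (MulAut.conj γ).injective)
  have hn : δ * γ ∈ S := by
    rw [mem_centralizer_singleton_iff]
    refine norm_cent hk hk1 fun s hs => ?_
    have := mem_centralizer_singleton_iff.1
      (hδS _ (mem_map_of_mem f (mem_centralizer_singleton_iff.2 hs)))
    convert this using 2 <;> simp [f, mul_assoc]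
  intro w hw
  have h1 : δ * (γ * w * γ⁻¹) * δ⁻¹ ∈ W := by
    have := (mem_normalizer_iff.1 (hnorm W hWk hW4 hn) w).1 hw
    convert this using 1
    group
  have h2 : ∀ v ∈ W', δ * v * δ⁻¹ ∈ W' := fun v hv => (mem_normalizer_iff.1 hδ v).1 hv
  have h3 : W' ≤ W := by
    intro v hv
    obtain ⟨u, hu, hu'⟩ : ∃ u ∈ W', δ * u * δ⁻¹ = v := by
      refine ⟨δ⁻¹ * v * δ, ?_, by group⟩
      exact (mem_normalizer_iff.1 hδ _).2 (by
        rw [show δ * (δ⁻¹ * v * δ) * δ⁻¹ = v by group]; exact hv)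
    obtain ⟨w', hw', rfl⟩ := hu
    rw [← hu']
    have := (mem_normalizer_iff.1 (hnorm W hWk hW4 hn) w').1 hw'
    convert this using 1
    simp [f, mul_assoc]
  exact h3 (mem_map_of_mem f hw)

theorem simple6 : IsSimpleGroup Alt6 := alternatingGroup.isSimpleGroup (by simp)

theorem trivial_of_fixed {X : Type*} [MulAction Alt6 X] {l : Alt6} (hl : l ≠ 1)
    (hfix : ∀ v : X, l • v = v) : ∀ (l : Alt6) (v : X), l • v = v := by
  haveI := simple6
  intro l' v
  have hk : (MulAction.toPermHom Alt6 X).ker = ⊤ := (IsSimpleGroup.eq_bot_or_eq_top_of_normal _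
    (MonoidHom.normal_ker _)).resolve_left fun e => hl (by
      have : l ∈ (MulAction.toPermHom Alt6 X).ker := Equiv.Perm.ext hfix
      rwa [e, Subgroup.mem_bot] at this)
  have : l' ∈ (MulAction.toPermHom Alt6 X).ker := hk ▸ mem_top l'
  exact congrArg (fun σ : Perm X => σ v) (MonoidHom.mem_ker.1 this)

/-- An action on fewer than six points is trivial. -/
theorem trivial_of_small {X : Type*} [Finite X] [MulAction Alt6 X] (hX : Nat.card X ≤ 5) :
    ∀ (l : Alt6) (v : X), l • v = v := by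
  by_contra hne
  have hinj : Function.Injective (MulAction.toPermHom Alt6 X) := by
    rw [← MonoidHom.ker_eq_bot_iff, Subgroup.eq_bot_iff_forall]
    intro l hl
    by_contra hl1
    exact hne (trivial_of_fixed hl1 fun v => congrArg (fun σ : Perm X => σ v) (MonoidHom.mem_ker.1 hl))
  have := Nat.card_le_card_of_injective _ hinj
  rw [card_alt6, Nat.card_perm] at this
  have h2 := Nat.factorial_le hX
  simp [Nat.factorial] at h2
  omega

/-- A nontrivial linear action on 16 elements is transitive on the nonzero ones. -/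
theorem transitive16 {X : Type*} [AddCommGroup X] [Finite X] [DistribMulAction Alt6 X]
    (hX : Nat.card X = 16) (hnt : ¬ ∀ (l : Alt6) (v : X), l • v = v) {v : X} (hv : v ≠ 0) :
    (∀ w : X, w ≠ 0 → ∃ l : Alt6, l • v = w) ∧ Nat.card ↥(MulAction.stabilizer Alt6 v) = 24 := by
  classical
  haveI : Fintype X := Fintype.ofFinite X
  haveI : Fact (Nat.Prime 5) := ⟨by norm_num⟩
  have hfree : ∀ f : Alt6, orderOf f = 5 → ∀ u : X, f • u = u → u = 0 := by
    intro f hf u hu
    let F : AddSubgroup X := (DistribSMul.toAddMonoidHom X f - AddMonoidHom.id X).ker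
    have hF : ∀ y, y ∈ F ↔ f • y = y := fun y => by
      simp [F, AddMonoidHom.mem_ker, sub_eq_zero]
    have hmod := Equiv.Perm.card_fixedPoints_modEq (p := 5) (n := 1) (f := (f • · : Function.End X))
      (by
        have : ∀ k : ℕ, (show Function.End X from (f • ·)) ^ k = (f ^ k • ·) := by
          intro k
          induction k with
          | zero => funext y; simp; rfl
          | succ k ih => rw [pow_succ, ih]; funext y; show f ^ k • f • y = _; rw [← mul_smul, ← pow_succ]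
        rw [this, pow_one, ← hf, pow_orderOf_eq_one]
        funext y
        exact one_smul _ _)
    rw [← Nat.card_eq_fintype_card, hX, ← Nat.card_eq_fintype_card] at hmod
    have hFc : Nat.card F = Nat.card (Function.fixedPoints (f • · : X → X)) :=
      Nat.card_congr (Equiv.subtypeEquivRight fun y => hF y)
    rw [← hFc] at hmod
    obtain ⟨j, hj, hFj⟩ := (Nat.dvd_prime_pow Nat.prime_two).1
      (show Nat.card F ∣ 2 ^ 4 by rw [show (2 : ℕ) ^ 4 = Nat.card X by rw [hX]; norm_num]; exact F.card_addSubgroup_dvd_card)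
    rw [hFj, Nat.ModEq] at hmod
    have hj04 : j = 0 ∨ j = 4 := by interval_cases j <;> first | omega | (norm_num at hmod)
    rcases hj04 with rfl | rfl
    · have hs : Subsingleton F := (Nat.card_eq_one_iff_unique.1 hFj).1
      exact congrArg Subtype.val (hs.elim (⟨u, (hF u).2 hu⟩ : F) 0)
    · have htop : F = ⊤ := AddSubgroup.eq_top_of_card_eq F (by rw [hFj, hX]; norm_num)
      exact absurd (trivial_of_fixed (fun e => by rw [e, orderOf_one] at hf; omega)
        fun y => (hF y).1 (htop ▸ AddSubgroup.mem_top y)) hnt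
  have horb : ∀ u : X, u ≠ 0 → 5 ∣ Nat.card (MulAction.orbit Alt6 u) ∧
      6 ≤ Nat.card (MulAction.orbit Alt6 u) ∧
      Nat.card (MulAction.orbit Alt6 u) * Nat.card ↥(MulAction.stabilizer Alt6 u) = 360 := by
    intro u hu
    have hmul : Nat.card (MulAction.orbit Alt6 u) * Nat.card ↥(MulAction.stabilizer Alt6 u) = 360 := by
      rw [Nat.card_congr (MulAction.orbitEquivQuotientStabilizer Alt6 u),
        ← card_eq_card_quotient_mul_card_subgroup, card_alt6]
    have h5 : 5 ∣ Nat.card (MulAction.orbit Alt6 u) := by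
      have hnd : ¬ 5 ∣ Nat.card ↥(MulAction.stabilizer Alt6 u) := by
        intro hd
        obtain ⟨f, hf⟩ := exists_prime_orderOf_dvd_card' 5 hd
        exact hu (hfree f (by rwa [Subgroup.orderOf_coe]) u f.2)
      exact ((Nat.Prime.dvd_mul (by norm_num : Nat.Prime 5)).1
        (hmul ▸ (by norm_num : 5 ∣ 360))).resolve_right hnd
    refine ⟨h5, ?_, hmul⟩
    by_contra hlt
    have htriv := trivial_of_small (X := MulAction.orbit Alt6 u) (by omega)
    obtain ⟨f, hf⟩ := exists_prime_orderOf_dvd_card' (G := Alt6) 5 (by rw [card_alt6]; norm_num)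
    exact hu (hfree f hf u (congrArg Subtype.val (htriv f ⟨u, MulAction.mem_orbit_self u⟩)))
  have hle : ∀ u : X, u ≠ 0 → MulAction.orbit Alt6 u ⊆ {0}ᶜ := by
    rintro u hu _ ⟨l, rfl⟩ h0
    exact hu ((smul_eq_zero_iff_eq l).1 h0)
  have hc15 : Nat.card ({0}ᶜ : Set X) = 15 := by
    rw [Nat.card_coe_set_eq, Set.ncard_compl, Set.ncard_singleton, hX]
  obtain ⟨h5, h6, hmul⟩ := horb v hv
  have hle15 : Nat.card (MulAction.orbit Alt6 v) ≤ 15 := hc15 ▸ by
    rw [Nat.card_coe_set_eq, Nat.card_coe_set_eq]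
    exact Set.ncard_le_ncard (hle v hv) (Set.toFinite _)
  have htrans : ∀ w : X, w ≠ 0 → w ∈ MulAction.orbit Alt6 v := by
    intro w hw
    by_contra hwv
    obtain ⟨h5', h6', -⟩ := horb w hw
    have hdis : Disjoint (MulAction.orbit Alt6 v) (MulAction.orbit Alt6 w) := by
      rw [Set.disjoint_left]
      intro y hyv hyw
      exact hwv (MulAction.orbit_eq_iff.1 ((MulAction.orbit_eq_iff.2 hyw).symm.trans
        (MulAction.orbit_eq_iff.2 hyv)))
    have := Set.ncard_le_ncard (Set.union_subset (hle v hv) (hle w hw)) (Set.toFinite _)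
    rw [Set.ncard_union_eq hdis (Set.toFinite _) (Set.toFinite _), ← Nat.card_coe_set_eq,
      ← Nat.card_coe_set_eq, ← Nat.card_coe_set_eq, hc15] at this
    omega
  refine ⟨htrans, ?_⟩
  have h15 : Nat.card (MulAction.orbit Alt6 v) = 15 := by
    refine le_antisymm hle15 (hc15 ▸ ?_)
    rw [Nat.card_coe_set_eq, Nat.card_coe_set_eq]
    exact Set.ncard_le_ncard (fun w hw => htrans w hw) (Set.toFinite _)
  rw [h15] at hmul
  omega

/-- A Sylow 2-subgroup fixes at most one point of a transitive action with stabilizers of order 24. -/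
theorem fixed_unique {X : Type*} [MulAction Alt6 X] {g : Alt6} (hg : g * g = 1) (hg1 : g ≠ 1)
    {a : X} {l : Alt6} (hfa : ∀ s, s * g = g * s → s • a = a)
    (hfb : ∀ s, s * g = g * s → s • l • a = l • a) : l • a = a := by
  set S := centralizer ({g} : Set Alt6)
  have hS8 : Nat.card S = 8 := (card_cent hg hg1).1
  set M := MulAction.stabilizer Alt6 a
  have hS : S ≤ M := fun s hs => hfa s (mem_centralizer_singleton_iff.1 hs)
  have hT : S.map (MulAut.conj l⁻¹).toMonoidHom ≤ M := by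
    rintro _ ⟨s, hs, rfl⟩
    show (l⁻¹ * s * l⁻¹⁻¹) • a = a
    rw [inv_inv, mul_smul, mul_smul, hfb s (mem_centralizer_singleton_iff.1 hs), inv_smul_smul]
  obtain ⟨m, hm, hmS⟩ := conj_eight hS hT hS8 (by
    rw [← hS8]; exact card_map_of_injective (MulAut.conj l⁻¹).injective)
  have hn : m * l⁻¹ ∈ S := by
    rw [mem_centralizer_singleton_iff]
    refine norm_cent hg hg1 fun s hs => ?_
    have := mem_centralizer_singleton_iff.1 (hmS _ ⟨s, mem_centralizer_singleton_iff.2 hs, rfl⟩)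
    convert this using 2 <;> simp [mul_assoc]
  have h1 : l⁻¹ • a = a := by
    have := hS hn
    have h2 : m⁻¹ • (m * l⁻¹) • a = m⁻¹ • a := by rw [show (m * l⁻¹) • a = a from this]
    rw [← mul_smul, inv_mul_cancel_left] at h2
    rw [h2]
    exact inv_mem hm
  conv_lhs => rw [← h1]
  exact smul_inv_smul l a

end CfsgLib.TriSix
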