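import Cfsg.Agent.TriSix.Rank

/-!
A singular vector whose stabilizer has an elementary normal subgroup with an odd first component:
the element of order three is then fixed-point-free.
-/

set_option autoImplicit false
set_option linter.unusedSectionVars false

namespace CfsgLib.TriSix

open Equiv

/-- A vector with its totally singular subspace and its elementary group of isometries. -/
structure Bad (Hs : Subgroup Amb) (V : Type*) [AddCommGroup V] [DistribMulAction ↥Hs V]
    (q : V → ZMod 2) (β : V → V → ZMod 2) (W : Subgroup ↥Hs) (x : V) (S : AddSubgroup V) : Prop where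
  conf : Conf Hs V q β
  ne : x ≠ 0
  mem : x ∈ S
  sing : ∀ e ∈ S, q e = 0
  fix : ∀ g ∈ W, g • x = x
  norm : ∀ h : ↥Hs, h • x = x → ∀ g ∈ W, h * g * h⁻¹ ∈ W
  comm : ∀ g ∈ W, ∀ g' ∈ W, g * g' = g' * g
  invol : ∀ g ∈ W, g * g = 1
  card : Nat.card W * Nat.card S = 128
  into : ∀ m : V, β m x = 0 → ∀ g ∈ W, g • m + m ∈ S
  small : ∀ e ∈ S, ∀ g ∈ W, g • e + e = 0 ∨ g • e + e = x
  odd : ∃ w ∈ W, Perm.sign w.1.1 = -1
  count : ∀ h : ↥Hs, h • x ∈ S → h • x ≠ x →
    Nat.card S ≤ Nat.card {g : ↥Hs // g ∈ W ∧ h⁻¹ * g * h ∈ W} *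
      Nat.card {e : V // e ∈ S ∧ h⁻¹ • e ∈ S}

variable {Hs : Subgroup Amb} {V : Type*} [AddCommGroup V] [DistribMulAction ↥Hs V]
  {q : V → ZMod 2} {β : V → V → ZMod 2} {W : Subgroup ↥Hs} {x : V} {S : AddSubgroup V}
  (B : Bad Hs V q β W x S)
include B

local notation "K" => Bad.conf B

theorem Bad.qx : q x = 0 := B.sing x B.mem

theorem Bad.iso : ∀ u ∈ S, ∀ v ∈ S, β u v = 0 := by
  intro u hu v hv
  have := (K).form.q_add u v
  rw [B.sing _ (add_mem hu hv), B.sing u hu, B.sing v hv, add_zero, zero_add] at this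
  exact this.symm

theorem Bad.S_le : Nat.card S ≤ 16 := by
  haveI := (K).finite
  have := (K).form.card_sq_le (D := ⊤) (fun v _ h => (K).form.nondeg v fun w => h w trivial)
    (X := S) le_top B.iso
  rw [AddSubgroup.card_top, (K).card] at this
  nlinarith

/-- The part of `W` with trivial first component. -/
def Bad.W0 (_B : Bad Hs V q β W x S) : Subgroup ↥Hs :=
  W ⊓ ((MonoidHom.fst (Perm (Fin 3)) (Perm (Fin 6))).comp Hs.subtype).ker

theorem Bad.mem_W0 {g : ↥Hs} : g ∈ B.W0 ↔ g ∈ W ∧ g.1.1 = 1 := Iff.rfl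

theorem Bad.first {g : ↥Hs} (hg : g ∈ W) {w : ↥Hs} (hw : w ∈ W) (hwo : Perm.sign w.1.1 = -1) :
    g.1.1 = 1 ∨ g.1.1 = w.1.1 :=
  cent_odd _ _ hwo (congrArg (fun p : ↥Hs => p.1.1) (B.comm g hg w hw))

theorem Bad.card_W0 : Nat.card W = 2 * Nat.card B.W0 := by
  haveI := (K).finite
  obtain ⟨w, hw, hwo⟩ := B.odd
  have hw1 : w.1.1 ≠ 1 := fun e => by rw [e, map_one] at hwo; exact absurd hwo (by decide)
  let f : ↥B.W0 ⊕ ↥B.W0 → ↥W := Sum.elim (fun g => ⟨g.1, g.2.1⟩) (fun g => ⟨w * g.1, mul_mem hw g.2.1⟩)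
  rw [two_mul, ← Nat.card_sum]
  refine (Nat.card_eq_of_bijective f ⟨?_, ?_⟩).symm
  · rintro (a | a) (b | b) e <;> have e := congrArg Subtype.val e <;>
      simp only [f, Sum.elim_inl, Sum.elim_inr] at e
    · exact congrArg Sum.inl (Subtype.ext e)
    · refine absurd ?_ hw1
      have h1 := congrArg (fun p : ↥Hs => p.1.1) e
      simp only [Subgroup.coe_mul, Prod.fst_mul] at h1
      rw [(show a.1.1.1 = 1 from a.2.2), (show b.1.1.1 = 1 from b.2.2), mul_one] at h1
      exact h1.symm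
    · refine absurd ?_ hw1
      have h1 := congrArg (fun p : ↥Hs => p.1.1) e
      simp only [Subgroup.coe_mul, Prod.fst_mul] at h1
      rw [(show a.1.1.1 = 1 from a.2.2), (show b.1.1.1 = 1 from b.2.2), mul_one] at h1
      exact h1
    · exact congrArg Sum.inr (Subtype.ext (mul_left_cancel e))
  · rintro ⟨g, hg⟩
    rcases B.first hg hw hwo with e | e
    · exact ⟨Sum.inl ⟨g, hg, e⟩, rfl⟩
    · refine ⟨Sum.inr ⟨w * g, mul_mem hw hg, ?_⟩, Subtype.ext ?_⟩
      · show w.1.1 * g.1.1 = 1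
        rw [e]; exact (odd_three _ hwo).2
      · show w * (w * g) = g
        rw [← mul_assoc, B.invol w hw, one_mul]

theorem Bad.four_le : 4 ≤ Nat.card B.W0 := by
  have h1 := B.card
  have h2 := B.S_le
  have h3 := B.card_W0
  nlinarith

/-- No element with first component of order three fixes the vector. -/
theorem Bad.first_fix {h : ↥Hs} (hh : h • x = x) :
    ∀ w ∈ W, Perm.sign w.1.1 = -1 → h.1.1 = 1 ∨ h.1.1 = w.1.1 := fun w hw hwo =>
  norm_odd _ _ hwo (B.first (g := h * w * h⁻¹) (B.norm h hh w hw) hw hwo)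

theorem Bad.T_ne : (K).T x ≠ x := by
  intro e
  obtain ⟨w, hw, hwo⟩ := B.odd
  rcases B.first_fix (h := (K).τ) e w hw hwo with h | h
  · exact c3_facts.2.2 h
  · rw [← show c3 = w.1.1 from h, c3_facts.1] at hwo
    exact absurd hwo (by decide)

/-- The part of `W` in the alternating group. -/
def Bad.WL : Subgroup Alt6 := W.comap (K).ι

theorem Bad.ι_mem_W0 {l : Alt6} (hl : l ∈ B.WL) : (K).ι l ∈ B.W0 := ⟨hl, rfl⟩

theorem Bad.eq_ι {g : ↥Hs} (h1 : g.1.1 = 1) (h2 : Perm.sign g.1.2 = 1) :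
    ∃ l : Alt6, (K).ι l = g :=
  ⟨⟨g.1.2, Perm.mem_alternatingGroup.2 h2⟩, Subtype.ext (Prod.ext h1.symm rfl)⟩

theorem Bad.exists_WL : ∃ g : Alt6, g ∈ B.WL ∧ g ≠ 1 := by
  classical
  haveI := (K).finite
  obtain ⟨a, ha1⟩ : ∃ a : ↥B.W0, a ≠ 1 := by
    by_contra hno
    push Not at hno
    haveI : Subsingleton ↥B.W0 := ⟨fun u v => (hno u).trans (hno v).symm⟩
    have := B.four_le
    rw [Nat.card_of_subsingleton (1 : ↥B.W0)] at this
    omega
  obtain ⟨b, hb⟩ : ∃ b : ↥B.W0, b ≠ 1 ∧ b ≠ a := by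
    by_contra hno
    push Not at hno
    haveI := Fintype.ofFinite ↥B.W0
    have h5 := Finset.card_le_card (show (Finset.univ : Finset ↥B.W0) ⊆ {1, a} from fun u _ => by
      by_cases hu : u = 1
      · simp [hu]
      · simp [hno u hu])
    rw [Finset.card_univ, ← Nat.card_eq_fintype_card] at h5
    exact absurd (B.four_le.trans (h5.trans Finset.card_le_two)) (by norm_num)
  have key : ∀ c : ↥B.W0, c ≠ 1 → Perm.sign c.1.1.2 = 1 → ∃ g : Alt6, g ∈ B.WL ∧ g ≠ 1 := by
    intro c hc1 hc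
    obtain ⟨l, hl⟩ := B.eq_ι c.2.2 hc
    refine ⟨l, show (K).ι l ∈ W by rw [hl]; exact c.2.1, fun e => hc1 (Subtype.ext ?_)⟩
    rw [← hl, e, map_one]
    rfl
  rcases Int.units_eq_one_or (Perm.sign a.1.1.2) with h | h
  · exact key a ha1 h
  rcases Int.units_eq_one_or (Perm.sign b.1.1.2) with h' | h'
  · exact key b hb.1 h'
  refine key (a * b) (fun e => hb.2 ?_) (by
    show Perm.sign (a.1.1.2 * b.1.1.2) = 1
    rw [map_mul, h, h']
    decide)
  have hbb : b * b = 1 := Subtype.ext (B.invol b.1 b.2.1)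
  calc b = a⁻¹ * (a * b) := (inv_mul_cancel_left a b).symm
    _ = a⁻¹ := by rw [e, mul_one]
    _ = a := inv_eq_of_mul_eq_one_right (Subtype.ext (B.invol a.1 a.2.1))

theorem Bad.invol_WL {g : Alt6} (hg : g ∈ B.WL) : g * g = 1 :=
  (K).ι_inj (by rw [map_mul, map_one]; exact B.invol _ hg)

/-- An element of `W` with trivial first component has rank at most one as soon as it kills the
orthogonal of a line. -/
theorem Bad.R1_of_kills {g : ↥Hs} (hg : g ∈ B.W0) {d : V} (hd : d ∈ (K).movD) (hd0 : d ≠ 0)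
    (hk : ∀ m ∈ (K).movD, β m d = 0 → β m ((K).T d) = 0 → (K).N g m = 0) : (K).R1 g := by
  refine ⟨d, hd, fun v hv => (K).mem_line_of_perp hd hd0 (add_mem ((K).smul_D hg.2 hv) hv)
    fun k hkD h1 h2 => ?_⟩
  rw [← (K).N_adjoint (B.invol g hg.1), hk k hkD h1 h2, (K).form.zero_left]

theorem Bad.R1_conj {g : Alt6} (hg : g * g = 1) (hg1 : g ≠ 1) (hR : (K).R1 ((K).ι g)) :
    ∀ g' : Alt6, g' * g' = 1 → g' ≠ 1 → (K).R1 ((K).ι g') := by
  intro g' hg' hg'1
  obtain ⟨γ, rfl⟩ := invol_conj hg hg1 hg' hg'1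
  obtain ⟨p, hp, hp'⟩ := hR
  refine ⟨(K).ι γ • p, (K).smul_D rfl hp, fun v hv => ?_⟩
  have h1 := hp' ((K).ι γ⁻¹ • v) ((K).smul_D rfl hv)
  have h2 : (K).ι γ • (K).N ((K).ι g) ((K).ι γ⁻¹ • v) = (K).N ((K).ι (γ * g * γ⁻¹)) v := by
    rw [(K).N_apply, (K).N_apply, smul_add, ← mul_smul, ← mul_smul, ← mul_smul, ← map_mul, ← map_mul,
      ← map_mul, mul_inv_cancel, map_one, one_smul]
  rw [← h2]
  rcases h1 with e | e | e | e <;> rw [e, (K).mem_line]
  · simp
  · simp
  · rw [(K).T_comm_ι]; simp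
  · rw [smul_add, (K).T_comm_ι]; simp

theorem Bad.nrm_fix {g : ↥Hs} (hg : g ∈ B.W0) : g • (K).nrm x = (K).nrm x := by
  have h1 := B.fix g hg.1
  show g • (x + (K).T x + (K).T ((K).T x)) = _
  rw [smul_add, smul_add, (K).T_comm g hg.2, (K).T_comm g hg.2, (K).T_comm g hg.2, h1]
  rfl

/-- An element commuting with everything: trivial on both parts implies trivial. -/
theorem Bad.eq_one_of_parts {g : ↥Hs} (hC : ∀ v ∈ (K).fixC, g • v = v)
    (hD : ∀ v ∈ (K).movD, g • v = v) : g = 1 := by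
  refine (K).faithful g fun v => ?_
  conv_lhs => rw [← (K).split v]
  rw [smul_add, hC _ ((K).nrm_mem v), hD _ ((K).sub_nrm_mem v), (K).split]

theorem Bad.not_both (hC : (K).TrivOn (K).fixC) (hD : (K).TrivOn (K).movD) : False :=
  g₀_sq.2 ((K).ι_inj ((B.eq_one_of_parts (g := (K).ι g₀) (hC g₀) (hD g₀)).trans (map_one _).symm))

theorem Bad.card_DC : (Nat.card (K).movD = 4 ∧ Nat.card (K).fixC = 64) ∨
    (Nat.card (K).movD = 16 ∧ Nat.card (K).fixC = 16) ∨
    (Nat.card (K).movD = 64 ∧ Nat.card (K).fixC = 4) ∨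
    (Nat.card (K).movD = 256 ∧ Nat.card (K).fixC = 1) := by
  have hd : x + (K).nrm x ≠ 0 := fun e => B.T_ne (by
    have h1 := (K).nrm_mem x
    rw [← (K).form.eq_of_add e] at h1
    exact h1)
  have h1 := (K).card_split
  have hne : Nat.card (K).movD ≠ 1 := fun e => hd (by
    haveI : Subsingleton ↥(K).movD := (Nat.card_eq_one_iff_unique.1 e).1
    exact congrArg Subtype.val (Subsingleton.elim (⟨_, (K).sub_nrm_mem x⟩ : ↥(K).movD) 0))
  rcases (K).pow_four (X := (K).movD) le_rfl (fun v => (K).T_mem_D) with e | e | e | e | e <;>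
    rw [e] at h1 hne ⊢ <;> omega

theorem Bad.D4 (h4 : Nat.card (K).movD = 4) {d : V} (hd : d ∈ (K).movD) (hd0 : d ≠ 0) :
    (K).movD = (K).line d ∧ q d = 1 ∧ β d ((K).T d) = 1 := by
  haveI := (K).finite
  have he : (K).line d = (K).movD := AddSubgroup.eq_of_le_of_card_ge
    ((K).line_le hd ((K).T_mem_D hd)) (by rw [h4, (K).card_line hd hd0])
  have h1 : β d ((K).T d) = 1 := by
    rcases (show ∀ a : ZMod 2, a = 0 ∨ a = 1 by decide) (β d ((K).T d)) with e | e
    · refine absurd ((K).nondeg_D d hd fun w hw => ?_) hd0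
      rw [← he] at hw
      rcases hw with rfl | rfl | rfl | rfl
      · exact (K).form.zero_right d
      · exact (K).form.self _
      · exact e
      · rw [(K).form.add_right, (K).form.self, e, add_zero]
    · exact e
  refine ⟨he.symm, ?_, h1⟩
  have h2 : q ((K).T ((K).T d)) = q d := by rw [(K).T_q, (K).T_q]
  rw [(K).TT_eq hd, (K).form.q_add, (K).T_q, h1, CharTwo.add_self_eq_zero, zero_add] at h2
  exact h2.symm

/-- The case of a six-dimensional fixed space is impossible. -/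
theorem Bad.fixed_six (h4 : Nat.card (K).movD = 4) (h64 : Nat.card (K).fixC = 64)
    (hc : (K).nrm x ≠ 0) : False := by
  haveI := (K).finite
  set c := (K).nrm x with hcdef
  set d := x + c with hddef
  have hd : d ∈ (K).movD := (K).sub_nrm_mem x
  have hd0 : d ≠ 0 := fun e => B.T_ne (by
    have h1 := (K).nrm_mem x
    rw [← hcdef, ← (K).form.eq_of_add e] at h1
    exact h1)
  have hxs : c + d = x := (K).split x
  obtain ⟨hDl, hqd, hdT⟩ := B.D4 h4 hd hd0
  have hcC : c ∈ (K).fixC := (K).nrm_mem x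
  have hqc : q c = 1 := by
    have h1 := (K).form.q_add c d
    rw [hxs, B.qx, hqd, (K).orth hcC hd, add_zero] at h1
    rcases (show ∀ a : ZMod 2, a = 0 ∨ a = 1 by decide) (q c) with e | e
    · rw [e] at h1; exact absurd h1 (by decide)
    · exact e
  set EC := S ⊓ (K).fixC
  have hECperp : ∀ e ∈ EC, β e c = 0 := by
    intro e he
    have h1 := B.iso e he.1 x B.mem
    rwa [← hxs, (K).form.add_right, (K).orth he.2 hd, add_zero] at h1
  have hEC4 : Nat.card EC ≤ 4 := by
    set X := EC ⊔ AddSubgroup.closure {c}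
    have hcE : c ∉ EC := fun he => by
      rw [B.sing c he.1] at hqc
      exact absurd hqc (by decide)
    have hlt : EC < X := lt_of_le_of_ne le_sup_left fun e => hcE (by
      rw [e]; exact le_sup_right (a := EC) (AddSubgroup.subset_closure rfl))
    have hiso : ∀ u ∈ X, ∀ v ∈ X, β u v = 0 := by
      have hbase : ∀ u ∈ (↑EC ∪ {c} : Set V), ∀ v ∈ (↑EC ∪ {c} : Set V), β u v = 0 := by
        rintro u (hu | hu) v (hv | hv) <;> (try simp only [Set.mem_singleton_iff] at hu hv)
        · exact B.iso u hu.1 v hv.1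
        · subst hv; exact hECperp u hu
        · subst hu; rw [(K).form.symm]; exact hECperp v hv
        · subst hu; subst hv; exact (K).form.self _
      have hX : X = AddSubgroup.closure (↑EC ∪ {c} : Set V) := by
        rw [AddSubgroup.closure_union, AddSubgroup.closure_eq]
      intro u hu v hv
      rw [hX] at hu hv
      refine (K).form.perp_closure (fun w hw => ?_) hv
      rw [(K).form.symm]
      refine (K).form.perp_closure (fun w' hw' => ?_) hu
      exact hbase w hw w' hw'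
    have h1 := (K).form.card_sq_le (K).nondeg_C (X := X)
      (sup_le inf_le_right ((AddSubgroup.closure_le _).2 (by simpa using hcC))) hiso
    have h2 := (K).form.card_double hlt
    rw [h64] at h1
    nlinarith
  -- the maps of `W0` on the fixed space
  have hNC : ∀ g ∈ B.W0, ∀ v ∈ (K).fixC, (K).N g v ∈ EC := by
    intro g hg v hv
    obtain ⟨a, ha, hab⟩ : ∃ a ∈ (K).movD, β v c + β a d = 0 := by
      rcases (show ∀ a : ZMod 2, a = 0 ∨ a = 1 by decide) (β v c) with e | e
      · exact ⟨0, zero_mem _, by rw [e, (K).form.zero_left, add_zero]⟩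
      · exact ⟨(K).T d, (K).T_mem_D hd, by rw [e, (K).form.symm, hdT]; decide⟩
    have hga : g • a = a := by
      have h1 := B.fix g hg.1
      have h2 : g • d = d := by
        show g • (x + c) = x + c
        rw [smul_add, h1, B.nrm_fix hg]
      rw [hDl] at ha
      rcases ha with rfl | rfl | rfl | rfl
      · exact smul_zero _
      · exact h2
      · rw [(K).T_comm g hg.2, h2]
      · rw [smul_add, (K).T_comm g hg.2, h2]
    refine ⟨?_, add_mem ((K).smul_C hg.2 hv) hv⟩
    have h3 := B.into (v + a) (by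
      have e1 : β (v + a) (c + d) = 0 := by
        rw [(K).form.add_left, (K).form.add_right v c d, (K).form.add_right a c d, (K).orth hv hd,
          (K).form.symm a c, (K).orth hcC ha, add_zero, zero_add, hab]
      rwa [hxs] at e1) g hg.1
    rw [(K).N_apply]
    rwa [smul_add, hga, show g • v + a + (v + a) = g • v + v + (a + a) by abel, (K).form.two,
      add_zero] at h3
  have hkill : ∀ g ∈ B.W0, ∀ e ∈ EC, (K).N g e = 0 := by
    intro g hg e he
    rcases B.small e he.1 g hg.1 with h | h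
    · exact h
    · refine absurd ?_ B.T_ne
      have h1 : (K).N g e ∈ (K).fixC := add_mem ((K).smul_C hg.2 he.2) he.2
      rw [(K).N_apply, h] at h1
      exact h1
  set Kp := (K).fixC ⊓ (K).form.perp (EC : Set V)
  have hKp : Nat.card EC * Nat.card Kp = 64 := by
    rw [← h64]; exact (K).form.card_perp (K).nondeg_C inf_le_right
  have h16 : 16 ≤ Nat.card Kp := by nlinarith
  obtain ⟨u, hu, v, hv, huv⟩ : ∃ u ∈ (K).fixC, ∃ v ∈ (K).fixC,
      (K).fixC ≤ Kp ⊔ AddSubgroup.closure {u, v} := by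
    by_cases h0 : (K).fixC ≤ Kp
    · exact ⟨0, zero_mem _, 0, zero_mem _, h0.trans le_sup_left⟩
    obtain ⟨u, hu, hu'⟩ := SetLike.not_le_iff_exists.1 h0
    set Y := Kp ⊔ AddSubgroup.closure {u}
    have hY : Kp < Y := lt_of_le_of_ne le_sup_left fun e => hu' (by
      rw [e]; exact le_sup_right (a := Kp) (AddSubgroup.subset_closure rfl))
    have hY2 := (K).form.card_double hY
    by_cases h1 : (K).fixC ≤ Y
    · exact ⟨u, hu, u, hu, h1.trans (sup_le_sup_left (AddSubgroup.closure_mono (by simp)) _)⟩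
    obtain ⟨v, hv, hv'⟩ := SetLike.not_le_iff_exists.1 h1
    refine ⟨u, hu, v, hv, ?_⟩
    set Z := Kp ⊔ AddSubgroup.closure {u, v}
    have hYZ : Y < Z := lt_of_le_of_ne (sup_le_sup_left (AddSubgroup.closure_mono (by simp)) _)
      fun e => hv' (by
        rw [e]; exact le_sup_right (a := Kp) (AddSubgroup.subset_closure (Or.inr rfl)))
    have hZ2 := (K).form.card_double hYZ
    have hZC : Z ≤ (K).fixC := sup_le inf_le_left ((AddSubgroup.closure_le _).2 (by
      rintro w (rfl | rfl) <;> assumption))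
    exact (AddSubgroup.eq_of_le_of_card_ge hZC (by omega)).ge
  let f : ↥B.W0 → ZMod 2 := fun g => β ((K).N g.1 u) v
  have hadd : ∀ g ∈ B.W0, ∀ g' ∈ B.W0, ∀ y ∈ (K).fixC,
      (K).N (g * g') y = (K).N g y + (K).N g' y := by
    intro g hg g' hg' y hy
    have h1 : g • (K).N g' y = (K).N g' y := (K).N_eq_zero.1 (hkill g hg _ (hNC g' hg' y hy))
    conv_rhs => arg 2; rw [← h1]
    rw [(K).N_apply, (K).N_apply, (K).N_apply, mul_smul, smul_add,
      show g • y + y + (g • g' • y + g • y) = g • g' • y + y + (g • y + g • y) by abel,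
      (K).form.two, add_zero]
  haveI := Fintype.ofFinite ↥B.W0
  obtain ⟨g, g', hgg', hf⟩ := Fintype.exists_ne_map_eq_of_card_lt f (by
    rw [ZMod.card, ← Nat.card_eq_fintype_card]
    exact lt_of_lt_of_le (by norm_num) B.four_le)
  set k : ↥Hs := g.1 * g'.1
  have hk : k ∈ B.W0 := mul_mem g.2 g'.2
  refine hgg' ?_
  have hk0 : β ((K).N k u) v = 0 := by
    rw [hadd g.1 g.2 g'.1 g'.2 u hu, (K).form.add_left]
    show f g + f g' = 0
    rw [hf, CharTwo.add_self_eq_zero]
  have hkk : k * k = 1 := B.invol k hk.1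
  have hdiag : ∀ y ∈ (K).fixC, β ((K).N k y) y = 0 := by
    intro y hy
    have h1 : q (k • y) = q y := (K).inv k y
    rw [show k • y = y + (K).N k y by
      rw [(K).N_apply, show y + (k • y + y) = k • y + (y + y) by abel, (K).form.two, add_zero],
      (K).form.q_add, B.sing _ (hNC k hk y hy).1, add_zero] at h1
    rw [(K).form.symm]
    exact add_eq_left.1 h1
  have hKz : ∀ y ∈ Kp, (K).N k y = 0 := by
    intro y hy
    refine (K).nondeg_C _ (hNC k hk y hy.1).2 fun w hw => ?_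
    rw [(K).N_adjoint hkk]
    exact (K).form.mem_perp.1 hy.2 _ (hNC k hk w hw)
  have hz : ∀ y ∈ ({u, v} : Set V), (K).N k y = 0 := by
    intro y hy
    have hyC : y ∈ (K).fixC := by rcases hy with rfl | rfl <;> assumption
    refine (K).nondeg_C _ (hNC k hk y hyC).2 fun w hw => ?_
    obtain ⟨a, ha, b, hb, rfl⟩ := AddSubgroup.mem_sup.1 (huv hw)
    rw [(K).form.add_right, (K).N_adjoint hkk, hKz a ha, (K).form.zero_right, zero_add]
    refine (K).form.perp_closure (fun w' hw' => ?_) hb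
    rcases hy with rfl | rfl <;> rcases hw' with rfl | rfl
    · exact hdiag _ hu
    · exact hk0
    · rw [(K).N_adjoint hkk, (K).form.symm]; exact hk0
    · exact hdiag _ hv
  have hk1 : k = 1 := by
    refine B.eq_one_of_parts (fun y hy => (K).N_eq_zero.1 ?_) fun y hy => ?_
    · obtain ⟨a, ha, b, hb, rfl⟩ := AddSubgroup.mem_sup.1 (huv hy)
      rw [map_add, hKz a ha, zero_add]
      have : AddSubgroup.closure ({u, v} : Set V) ≤ ((K).N k).ker :=
        (AddSubgroup.closure_le _).2 fun w hw => hz w hw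
      exact this hb
    · rw [hDl] at hy
      have h2 : k • d = d := by
        show k • (x + c) = x + c
        rw [smul_add, B.fix k hk.1, B.nrm_fix hk]
      rcases hy with rfl | rfl | rfl | rfl
      · exact smul_zero _
      · exact h2
      · rw [(K).T_comm k hk.2, h2]
      · rw [smul_add, (K).T_comm k hk.2, h2]
  exact Subtype.ext (by
    rw [eq_inv_of_mul_eq_one_left (show g.1 * g'.1 = 1 from hk1),
      inv_eq_of_mul_eq_one_right (B.invol _ g'.2.1)])

/-- The fixed space of `τ` is trivial. -/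
theorem Bad.fixed_point_free : ∀ v : V, v ∈ (K).movD := by
  haveI := (K).finite
  have invC : ∀ l : Alt6, ∀ v ∈ (K).fixC, (K).ι l • v ∈ (K).fixC := fun l v hv => (K).smul_C rfl hv
  have invD : ∀ l : Alt6, ∀ v ∈ (K).movD, (K).ι l • v ∈ (K).movD := fun l v hv => (K).smul_D rfl hv
  have small : ∀ X : AddSubgroup V, (∀ l : Alt6, ∀ v ∈ X, (K).ι l • v ∈ X) →
      (∀ v ∈ X, (∀ w ∈ X, β v w = 0) → v = 0) → Nat.card X ≤ 16 → (Nat.card X ≤ 5 ∨ Nat.card X = 16) →
      (K).TrivOn X := fun X hX hnd _ hc => hc.elim ((K).trivOn_small hX) fun e => (K).trivOn_sixteen hX e hnd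
  rcases B.card_DC with ⟨hD, hC⟩ | ⟨hD, hC⟩ | ⟨hD, hC⟩ | ⟨hD, hC⟩
  · exfalso
    by_cases hc : (K).nrm x = 0
    · have hxD : x ∈ (K).movD := by simpa [hc] using (K).sub_nrm_mem x
      have := (B.D4 hD hxD B.ne).2.1
      rw [B.qx] at this
      exact absurd this (by decide)
    · exact B.fixed_six hD hC hc
  · exact (B.not_both (small _ invC (K).nondeg_C (by omega) (Or.inr hC))
      (small _ invD (K).nondeg_D (by omega) (Or.inr hD))).elim
  · exfalso
    refine B.not_both (small _ invC (K).nondeg_C (by omega) (Or.inl (by omega))) ?_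
    refine (K).trivOn_of_R1 fun g hg hg1 => ?_
    set U := ((K).movD).map ((K).N ((K).ι g))
    have hU : U ≤ (K).movD := by
      rintro _ ⟨v, hv, rfl⟩
      exact add_mem ((K).smul_D rfl hv) hv
    have hgg : (K).ι g * (K).ι g = 1 := by rw [← map_mul, hg, map_one]
    have hiso : ∀ u ∈ U, ∀ v ∈ U, β u v = 0 := by
      rintro _ ⟨a, -, rfl⟩ _ ⟨b, -, rfl⟩
      rw [(K).N_adjoint hgg, (K).N_sq hgg, (K).form.zero_right]
    have h1 := (K).form.card_sq_le (K).nondeg_D hU hiso
    rw [hD] at h1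
    have hUT : ∀ v ∈ U, (K).T v ∈ U := by
      rintro _ ⟨a, ha, rfl⟩
      exact ⟨_, (K).T_mem_D ha, (K).N_T rfl a⟩
    have h4 : Nat.card U ≤ 4 := by
      rcases (K).pow_four hU hUT with e | e | e | e | e <;> rw [e] at h1 <;> omega
    by_cases hne : ∃ p ∈ U, p ≠ 0
    · obtain ⟨p, hp, hp0⟩ := hne
      refine ⟨p, hU hp, fun v hv => ?_⟩
      have he : (K).line p = U := AddSubgroup.eq_of_le_of_card_ge ((K).line_le hp (hUT p hp))
        (by rw [(K).card_line (hU hp) hp0]; exact h4)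
      rw [he]
      exact ⟨v, hv, rfl⟩
    · push Not at hne
      exact ⟨0, zero_mem _, fun v hv => Or.inl (hne _ ⟨v, hv, rfl⟩)⟩
  · intro v
    have hn : (K).nrm v = 0 := by
      haveI : Subsingleton ↥(K).fixC := (Nat.card_eq_one_iff_unique.1 hC).1
      exact congrArg Subtype.val (Subsingleton.elim (⟨_, (K).nrm_mem v⟩ : ↥(K).fixC) 0)
    simpa [hn] using (K).sub_nrm_mem v

end CfsgLib.TriSix
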