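import Mathlib

/-!
Nondegenerate quadratic spaces over the field with two elements, in additive notation.
-/

set_option autoImplicit false
set_option linter.unusedSectionVars false

namespace CfsgLib.TriSix

variable {V : Type*} [AddCommGroup V]

/-- A nondegenerate quadratic form on a group of exponent two. -/
structure Form (q : V → ZMod 2) (β : V → V → ZMod 2) : Prop where
  two : ∀ v : V, v + v = 0
  q_add : ∀ u v, q (u + v) = q u + q v + β u v
  add_left : ∀ u u' v, β (u + u') v = β u v + β u' v
  nondeg : ∀ u, (∀ v, β u v = 0) → u = 0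

variable {q : V → ZMod 2} {β : V → V → ZMod 2} (F : Form q β)
include F

theorem Form.symm (u v : V) : β u v = β v u := by
  have h1 := F.q_add u v
  rw [add_comm u v, F.q_add v u, add_comm (q v) (q u)] at h1
  exact (add_left_cancel h1).symm

theorem Form.add_right (u v v' : V) : β u (v + v') = β u v + β u v' := by
  rw [F.symm, F.add_left, F.symm v, F.symm v']

theorem Form.zero_left (v : V) : β 0 v = 0 := by
  have := F.add_left 0 0 v
  rw [add_zero] at this
  exact left_eq_add.1 this

theorem Form.zero_right (v : V) : β v 0 = 0 := by rw [F.symm, F.zero_left]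

theorem Form.q_zero : q 0 = 0 := by
  have := F.q_add 0 0
  rw [add_zero, F.zero_left, add_zero] at this
  exact left_eq_add.1 this

theorem Form.self (v : V) : β v v = 0 := by
  have := F.q_add v v
  rw [F.two, F.q_zero, CharTwo.add_self_eq_zero, zero_add] at this
  exact this.symm

theorem Form.neg_eq (v : V) : -v = v := neg_eq_of_add_eq_zero_right (F.two v)

theorem Form.eq_of_add {u v : V} (h : u + v = 0) : u = v := by
  rw [← F.neg_eq v]; exact eq_neg_of_add_eq_zero_left h

/-- The vectors orthogonal to a set. -/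
def Form.perp (s : Set V) : AddSubgroup V where
  carrier := {v | ∀ u ∈ s, β v u = 0}
  zero_mem' := fun u _ => F.zero_left u
  add_mem' := fun {a b} ha hb u hu => by rw [F.add_left, ha u hu, hb u hu, add_zero]
  neg_mem' := fun {a} ha => by rwa [F.neg_eq]

theorem Form.mem_perp {s : Set V} {v : V} : v ∈ F.perp s ↔ ∀ u ∈ s, β v u = 0 := Iff.rfl

theorem Form.perp_closure {s : Set V} {v : V} (hv : ∀ u ∈ s, β v u = 0) {w : V}
    (hw : w ∈ AddSubgroup.closure s) : β v w = 0 := by
  induction hw using AddSubgroup.closure_induction with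
  | mem u hu => exact hv u hu
  | zero => exact F.zero_right v
  | add a b _ _ iha ihb => rw [F.add_right, iha, ihb, add_zero]
  | neg a _ iha => rwa [F.neg_eq]

theorem Form.sum_char [Finite V] (X : AddSubgroup V) [Fintype X] (v : V) (h : ∃ x ∈ X, β v x ≠ 0) :
    ∑ x : X, (if β v x = 0 then (1 : ℤ) else -1) = 0 := by
  obtain ⟨x₀, hx₀, hne⟩ := h
  have h1 : ∀ a : ZMod 2, a ≠ 0 → a = 1 := by decide
  have hne' := h1 _ hne
  have key := Fintype.sum_equiv (Equiv.addRight (⟨x₀, hx₀⟩ : X))
    (fun x : X => -(if β v x = 0 then (1 : ℤ) else -1))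
    (fun x : X => if β v x = 0 then (1 : ℤ) else -1) (fun x => by
      show -(if β v x = 0 then (1 : ℤ) else -1) = if β v ((x : V) + x₀) = 0 then (1 : ℤ) else -1
      rw [F.add_right, hne']
      by_cases hb : β v x = 0
      · rw [hb]; simp
      · rw [h1 _ hb]
        simp [CharTwo.add_self_eq_zero])
  rw [Finset.sum_neg_distrib] at key
  omega

/-- `|X| |X^⊥| = |D|` for a subgroup of a nondegenerate subgroup. -/
theorem Form.card_perp [Finite V] {D : AddSubgroup V} (hD : ∀ v ∈ D, (∀ w ∈ D, β v w = 0) → v = 0)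
    {X : AddSubgroup V} (hX : X ≤ D) :
    Nat.card X * Nat.card ↥(D ⊓ F.perp (X : Set V)) = Nat.card D := by
  classical
  haveI : Fintype V := Fintype.ofFinite V
  let f : V → V → ℤ := fun v x => if β v x = 0 then 1 else -1
  have h1 : ∑ d : D, ∑ x : X, f d x = (Nat.card X * Nat.card ↥(D ⊓ F.perp (X : Set V)) : ℕ) := by
    rw [← Finset.sum_filter_add_sum_filter_not Finset.univ (fun d : D => (d : V) ∈ F.perp (X : Set V))]
    rw [Finset.sum_eq_zero (s := Finset.univ.filter fun d : D => ¬ (d : V) ∈ F.perp (X : Set V)),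
      add_zero, Finset.sum_congr rfl (g := fun _ => ((Nat.card X : ℕ) : ℤ))]
    · rw [Finset.sum_const, nsmul_eq_mul, mul_comm, ← Fintype.card_subtype,
        ← Nat.card_eq_fintype_card (α := {d : D // (d : V) ∈ F.perp (X : Set V)}),
        Nat.card_congr (show {d : D // (d : V) ∈ F.perp (X : Set V)} ≃ ↥(D ⊓ F.perp (X : Set V)) from
          ⟨fun d => ⟨d.1, d.1.2, d.2⟩, fun d => ⟨⟨d.1, d.2.1⟩, d.2.2⟩, fun d => rfl, fun d => rfl⟩)]
      push_cast
      ring
    · intro d hd
      rw [Finset.mem_filter] at hd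
      rw [Finset.sum_congr rfl (g := fun _ => (1 : ℤ)) fun y _ => if_pos (hd.2 _ (SetLike.coe_mem y))]
      simp [Nat.card_eq_fintype_card]
    · intro d hd
      rw [Finset.mem_filter, F.mem_perp] at hd
      push Not at hd
      obtain ⟨-, x, hx, hne⟩ := hd
      exact F.sum_char X d ⟨x, hx, hne⟩
  have h2 : ∑ x : X, ∑ d : D, f d x = (Nat.card D : ℕ) := by
    rw [Finset.sum_eq_single (0 : X)]
    · simp only [f, ZeroMemClass.coe_zero, F.zero_right, if_true]
      simp [Nat.card_eq_fintype_card]
    · intro x _ hx0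
      have hex : ∃ d ∈ D, β x d ≠ 0 := by
        by_contra hno
        push Not at hno
        exact hx0 (Subtype.ext (hD x (hX x.2) hno))
      refine (Finset.sum_congr rfl fun d _ => ?_).trans (F.sum_char D (x : V) hex)
      simp only [f]
      rw [F.symm]
    · simp
  rw [Finset.sum_comm, h2] at h1
  exact_mod_cast h1.symm

theorem Form.card_sq_le [Finite V] {D : AddSubgroup V} (hD : ∀ v ∈ D, (∀ w ∈ D, β v w = 0) → v = 0)
    {X : AddSubgroup V} (hX : X ≤ D) (hiso : ∀ u ∈ X, ∀ v ∈ X, β u v = 0) :
    Nat.card X * Nat.card X ≤ Nat.card D := by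
  rw [← F.card_perp hD hX]
  refine Nat.mul_le_mul_left _ (Nat.card_le_card_of_injective
    (AddSubgroup.inclusion (le_inf hX (fun u hu => F.mem_perp.2 fun v hv => hiso u hu v hv)))
    (AddSubgroup.inclusion_injective _))

/-- An involutory isometry is self-adjoint. -/
theorem Form.adjoint {g : V → V} (hβ : ∀ u v, β (g u) (g v) = β u v) (hg : ∀ v, g (g v) = v) (u v : V) :
    β (g u + u) v = β u (g v + v) := by
  rw [F.add_left, F.add_right, ← hβ u (g v), hg]

/-- A proper containment at least doubles the order. -/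
theorem Form.card_double [Finite V] {X Y : AddSubgroup V} (h : X < Y) :
    2 * Nat.card X ≤ Nat.card Y := by
  obtain ⟨v, hv, hvX⟩ := SetLike.exists_of_lt h
  let f : X ⊕ X → Y := Sum.elim (fun a => ⟨a, h.le a.2⟩) (fun a => ⟨(a : V) + v, add_mem (h.le a.2) hv⟩)
  have hf : Function.Injective f := by
    rintro (a | a) (b | b) e <;> have e := congrArg Subtype.val e <;> simp only [f, Sum.elim_inl,
      Sum.elim_inr] at e
    · exact congrArg Sum.inl (Subtype.ext e)
    · refine absurd ?_ hvX
      have : v = (b : V) + a := by rw [e, ← add_assoc, F.two, zero_add]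
      rw [this]; exact add_mem b.2 a.2
    · refine absurd ?_ hvX
      have : v = (a : V) + b := by rw [← e, ← add_assoc, F.two, zero_add]
      rw [this]; exact add_mem a.2 b.2
    · exact congrArg Sum.inr (Subtype.ext (add_right_cancel e))
  have := Nat.card_le_card_of_injective f hf
  rwa [Nat.card_sum, ← two_mul] at this

end CfsgLib.TriSix
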