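import Cfsg.Agent.TriSix.Alt
import Cfsg.Agent.TriSix.Space

/-!
A subgroup of `S₃ × S₆` containing `3 × A₆`, acting on an orthogonal space of dimension 8: basic
operators and the splitting along the element of order three.
-/

set_option autoImplicit false
set_option linter.unusedSectionVars false

namespace CfsgLib.TriSix

open Equiv

/-- The ambient product. -/
abbrev Amb : Type := Perm (Fin 3) × Perm (Fin 6)

/-- A three-cycle. -/
def c3 : Perm (Fin 3) := swap 0 1 * swap 1 2

theorem c3_facts : Perm.sign c3 = 1 ∧ c3 * c3 * c3 = 1 ∧ c3 ≠ 1 := by decide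

theorem even_three : ∀ a : Perm (Fin 3), Perm.sign a = 1 → a = 1 ∨ a = c3 ∨ a = c3 * c3 := by decide

theorem odd_three : ∀ t : Perm (Fin 3), Perm.sign t = -1 → t * c3 = c3 * c3 * t ∧ t * t = 1 := by
  decide

theorem cent_odd : ∀ t a : Perm (Fin 3), Perm.sign t = -1 →
    a * t = t * a → a = 1 ∨ a = t := by decide

theorem norm_odd : ∀ t a : Perm (Fin 3), Perm.sign t = -1 →
    (a * t * a⁻¹ = 1 ∨ a * t * a⁻¹ = t) → a = 1 ∨ a = t := by decide

/-- The setting: an orthogonal space of order 256 with a faithful action of `Hs`. -/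
structure Conf (Hs : Subgroup Amb) (V : Type*) [AddCommGroup V] [DistribMulAction ↥Hs V]
    (q : V → ZMod 2) (β : V → V → ZMod 2) : Prop where
  form : Form q β
  inv : ∀ (h : ↥Hs) v, q (h • v) = q v
  faithful : ∀ h : ↥Hs, (∀ v : V, h • v = v) → h = 1
  card : Nat.card V = 256
  top : ∀ p : Amb, Perm.sign p.1 = 1 → Perm.sign p.2 = 1 → p ∈ Hs

variable {Hs : Subgroup Amb} {V : Type*} [AddCommGroup V] [DistribMulAction ↥Hs V]
  {q : V → ZMod 2} {β : V → V → ZMod 2} (K : Conf Hs V q β)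
include K

theorem Conf.finite : Finite V := Nat.finite_of_card_ne_zero (by rw [K.card]; norm_num)

theorem Conf.beta_inv (h : ↥Hs) (u v : V) : β (h • u) (h • v) = β u v := by
  have h1 := K.form.q_add (h • u) (h • v)
  rw [← smul_add, K.inv, K.inv, K.inv, K.form.q_add u v] at h1
  exact (add_left_cancel h1).symm

/-- The element `(c3, 1)`. -/
def Conf.τ : ↥Hs := ⟨(c3, 1), K.top _ c3_facts.1 (map_one _)⟩

/-- The embedding of the alternating group. -/
def Conf.ι : Alt6 →* ↥Hs where
  toFun l := ⟨(1, (l : Perm (Fin 6))), K.top _ (map_one _) (Perm.mem_alternatingGroup.1 l.2)⟩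
  map_one' := rfl
  map_mul' a b := Subtype.ext (Prod.ext (one_mul 1).symm rfl)

theorem Conf.ι_inj : Function.Injective K.ι := fun _ _ e =>
  Subtype.ext (congrArg (fun h : ↥Hs => h.1.2) e)

/-- The operator of `τ`. -/
def Conf.T (v : V) : V := K.τ • v

theorem Conf.T_add (u v : V) : K.T (u + v) = K.T u + K.T v := smul_add _ _ _

theorem Conf.T_zero : K.T 0 = 0 := smul_zero _

theorem Conf.T3 (v : V) : K.T (K.T (K.T v)) = v := by
  simp only [Conf.T, ← mul_smul]
  rw [show K.τ * (K.τ * K.τ) = 1 from Subtype.ext (Prod.ext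
    (by rw [← mul_assoc]; exact c3_facts.2.1) (by simp [Conf.τ])), one_smul]

theorem Conf.T_beta (u v : V) : β (K.T u) (K.T v) = β u v := K.beta_inv _ u v

theorem Conf.T_q (v : V) : q (K.T v) = q v := K.inv _ v

theorem Conf.T_comm (h : ↥Hs) (h1 : h.1.1 = 1) (v : V) : h • K.T v = K.T (h • v) := by
  simp only [Conf.T, ← mul_smul]
  congr 1
  refine Subtype.ext (Prod.ext ?_ ?_)
  · show h.1.1 * c3 = c3 * h.1.1
    rw [h1, one_mul, mul_one]
  · show h.1.2 * 1 = 1 * h.1.2
    rw [one_mul, mul_one]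

theorem Conf.T_comm_ι (l : Alt6) (v : V) : K.ι l • K.T v = K.T (K.ι l • v) := K.T_comm _ rfl v

theorem Conf.T_odd (w : ↥Hs) (hw : Perm.sign w.1.1 = -1) (v : V) :
    w • K.T v = K.T (K.T (w • v)) := by
  simp only [Conf.T, ← mul_smul]
  congr 1
  refine Subtype.ext (Prod.ext ?_ ?_)
  · show w.1.1 * c3 = c3 * c3 * w.1.1
    exact (odd_three _ hw).1
  · show w.1.2 * 1 = 1 * 1 * w.1.2
    simp

/-- The fixed space of `τ`. -/
def Conf.fixC : AddSubgroup V where
  carrier := {v | K.T v = v}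
  zero_mem' := K.T_zero
  add_mem' := fun {a b} ha hb => by
    show K.T (a + b) = a + b
    rw [K.T_add, show K.T a = a from ha, show K.T b = b from hb]
  neg_mem' := fun {a} ha => by rwa [K.form.neg_eq]

/-- The commutator space of `τ`. -/
def Conf.movD : AddSubgroup V where
  carrier := {v | v + K.T v + K.T (K.T v) = 0}
  zero_mem' := by simp [K.T_zero]
  add_mem' := fun {a b} ha hb => by
    show a + b + K.T (a + b) + K.T (K.T (a + b)) = 0
    rw [K.T_add, K.T_add,
      show a + b + (K.T a + K.T b) + (K.T (K.T a) + K.T (K.T b)) =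
        (a + K.T a + K.T (K.T a)) + (b + K.T b + K.T (K.T b)) by abel,
      show a + K.T a + K.T (K.T a) = 0 from ha, show b + K.T b + K.T (K.T b) = 0 from hb, add_zero]
  neg_mem' := fun {a} ha => by rwa [K.form.neg_eq]

theorem Conf.TT_eq {v : V} (hv : v ∈ K.movD) : K.T (K.T v) = v + K.T v :=
  (K.form.eq_of_add (show v + K.T v + K.T (K.T v) = 0 from hv)).symm

/-- The projection on the fixed space. -/
def Conf.nrm (v : V) : V := v + K.T v + K.T (K.T v)

theorem Conf.nrm_mem (v : V) : K.nrm v ∈ K.fixC := by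
  show K.T (K.nrm v) = K.nrm v
  simp only [Conf.nrm, K.T_add, K.T3]
  abel

theorem Conf.sub_nrm_mem (v : V) : v + K.nrm v ∈ K.movD := by
  show v + K.nrm v + K.T (v + K.nrm v) + K.T (K.T (v + K.nrm v)) = 0
  have e : K.T (K.nrm v) = K.nrm v := K.nrm_mem v
  rw [K.T_add, e, K.T_add, e,
    show v + K.nrm v + (K.T v + K.nrm v) + (K.T (K.T v) + K.nrm v) =
      (v + K.T v + K.T (K.T v) + K.nrm v) + (K.nrm v + K.nrm v) by abel]
  show K.nrm v + K.nrm v + (K.nrm v + K.nrm v) = 0
  exact K.form.two _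

theorem Conf.split (v : V) : K.nrm v + (v + K.nrm v) = v := by
  rw [show K.nrm v + (v + K.nrm v) = v + (K.nrm v + K.nrm v) by abel, K.form.two, add_zero]

theorem Conf.orth {c d : V} (hc : c ∈ K.fixC) (hd : d ∈ K.movD) : β c d = 0 := by
  have h1 : β c (K.T d) = β c d := by
    have := K.T_beta c d
    rwa [show K.T c = c from hc] at this
  have h2 : β c (K.T (K.T d)) = β c d := by
    have := K.T_beta c (K.T d)
    rw [show K.T c = c from hc, h1] at this
    exact this
  rw [K.TT_eq hd, K.form.add_right, h1, CharTwo.add_self_eq_zero] at h2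
  exact h2.symm

theorem Conf.nondeg_C : ∀ v ∈ K.fixC, (∀ w ∈ K.fixC, β v w = 0) → v = 0 := fun v hv h => by
  refine K.form.nondeg v fun w => ?_
  rw [← K.split w, K.form.add_right, h _ (K.nrm_mem w), K.orth hv (K.sub_nrm_mem w), add_zero]

theorem Conf.nondeg_D : ∀ v ∈ K.movD, (∀ w ∈ K.movD, β v w = 0) → v = 0 := fun v hv h => by
  refine K.form.nondeg v fun w => ?_
  rw [← K.split w, K.form.add_right, h _ (K.sub_nrm_mem w), K.form.symm,
    K.orth (K.nrm_mem w) hv, add_zero]

theorem Conf.T_mem_D {v : V} (hv : v ∈ K.movD) : K.T v ∈ K.movD := by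
  show K.T v + K.T (K.T v) + K.T (K.T (K.T v)) = 0
  rw [← K.T_add, ← K.T_add, show v + K.T v + K.T (K.T v) = 0 from hv, K.T_zero]

theorem Conf.fpf {v : V} (hv : v ∈ K.movD) (h : K.T v = v) : v = 0 := by
  have e := K.TT_eq hv
  rw [h, h, K.form.two] at e
  exact e

theorem Conf.inter_CD {v : V} (hc : v ∈ K.fixC) (hd : v ∈ K.movD) : v = 0 := K.fpf hd hc

theorem Conf.card_split : Nat.card K.fixC * Nat.card K.movD = 256 := by
  haveI := K.finite
  rw [← Nat.card_prod, ← K.card]
  refine Nat.card_eq_of_bijective (fun p : K.fixC × K.movD => (p.1 : V) + p.2) ⟨?_, fun v => ?_⟩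
  · rintro ⟨a, b⟩ ⟨a', b'⟩ e
    simp only at e
    have h1 : (a : V) + a' = b + b' := by
      calc (a : V) + a' = (a + b) + (b + a') := by
            rw [show (a : V) + b + (b + a') = a + a' + ((b : V) + b) by abel, K.form.two, add_zero]
        _ = (a' + b') + (b + a') := by rw [e]
        _ = _ := by
            rw [show (a' : V) + b' + (b + a') = b + b' + ((a' : V) + a') by abel, K.form.two, add_zero]
    have h2 := K.inter_CD (add_mem a.2 a'.2) (h1.symm ▸ add_mem b.2 b'.2)
    exact Prod.ext (Subtype.ext (K.form.eq_of_add h2))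
      (Subtype.ext (K.form.eq_of_add (h1.symm.trans h2)))
  · exact ⟨(⟨_, K.nrm_mem v⟩, ⟨_, K.sub_nrm_mem v⟩), K.split v⟩

/-- The order of a `τ`-invariant subgroup of the commutator space is a power of four. -/
theorem Conf.pow_four {X : AddSubgroup V} (hX : X ≤ K.movD) (hT : ∀ v ∈ X, K.T v ∈ X) :
    Nat.card X = 1 ∨ Nat.card X = 4 ∨ Nat.card X = 16 ∨ Nat.card X = 64 ∨ Nat.card X = 256 := by
  classical
  haveI := K.finite
  haveI : Fintype X := Fintype.ofFinite X
  haveI : Fact (Nat.Prime 3) := ⟨Nat.prime_three⟩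
  let f : Function.End X := fun v => ⟨K.T v, hT v v.2⟩
  have hmod := Equiv.Perm.card_fixedPoints_modEq (p := 3) (n := 1) (f := f) (by
    funext v
    exact Subtype.ext (K.T3 v))
  have hfix : Nat.card (Function.fixedPoints f) = 1 := by
    refine Nat.card_eq_one_iff_unique.2 ⟨⟨fun a b => Subtype.ext ?_⟩, ⟨⟨0, Subtype.ext K.T_zero⟩⟩⟩
    have key : ∀ a : Function.fixedPoints f, (a.1 : X) = 0 := fun a => Subtype.ext
      (K.fpf (hX a.1.2) (congrArg Subtype.val a.2))
    rw [key a, key b]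
  rw [← Nat.card_eq_fintype_card, ← Nat.card_eq_fintype_card, hfix] at hmod
  obtain ⟨j, hj, hXj⟩ := (Nat.dvd_prime_pow Nat.prime_two).1
    (show Nat.card X ∣ 2 ^ 8 by
      rw [show (2 : ℕ) ^ 8 = Nat.card V by rw [K.card]; norm_num]
      exact X.card_addSubgroup_dvd_card)
  rw [hXj, Nat.ModEq] at hmod
  rw [hXj]
  interval_cases j <;> first | (norm_num; done) | (norm_num at hmod)

/-- The line spanned by a vector and its image under `τ`. -/
def Conf.line (p : V) : AddSubgroup V where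
  carrier := {v | v = 0 ∨ v = p ∨ v = K.T p ∨ v = p + K.T p}
  zero_mem' := Or.inl rfl
  add_mem' := fun {a b} ha hb => by
    have h2 := K.form.two
    simp only [Set.mem_setOf_eq] at ha hb ⊢
    rcases ha with rfl | rfl | rfl | rfl <;> rcases hb with rfl | rfl | rfl | rfl <;>
      simp [h2, add_comm, add_left_comm, ← add_assoc] <;>
      simp [h2, add_assoc]
  neg_mem' := fun {a} ha => by rwa [K.form.neg_eq]

theorem Conf.mem_line {p v : V} :
    v ∈ K.line p ↔ v = 0 ∨ v = p ∨ v = K.T p ∨ v = p + K.T p := Iff.rfl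

theorem Conf.self_mem_line (p : V) : p ∈ K.line p := Or.inr (Or.inl rfl)

theorem Conf.T_mem_line' (p : V) : K.T p ∈ K.line p := Or.inr (Or.inr (Or.inl rfl))

theorem Conf.line_le {p : V} {X : AddSubgroup V} (h1 : p ∈ X) (h2 : K.T p ∈ X) : K.line p ≤ X := by
  rintro v (rfl | rfl | rfl | rfl)
  exacts [zero_mem _, h1, h2, add_mem h1 h2]

theorem Conf.T_mem_line {p v : V} (hp : p ∈ K.movD) (hv : v ∈ K.line p) : K.T v ∈ K.line p := by
  rcases hv with rfl | rfl | rfl | rfl
  · rw [K.T_zero]; exact zero_mem _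
  · exact K.T_mem_line' _
  · rw [K.TT_eq hp]; exact Or.inr (Or.inr (Or.inr rfl))
  · rw [K.T_add, K.TT_eq hp, show K.T p + (p + K.T p) = p + (K.T p + K.T p) by abel, K.form.two,
      add_zero]
    exact K.self_mem_line p

theorem Conf.card_line {p : V} (hp : p ∈ K.movD) (hp0 : p ≠ 0) : Nat.card (K.line p) = 4 := by
  classical
  have hT : K.T p ≠ 0 := fun e => hp0 (by rw [← K.T3 p, e, K.T_zero, K.T_zero])
  have hTp : K.T p ≠ p := fun e => hp0 (K.fpf hp e)
  have hs : p + K.T p ≠ 0 := fun e => hTp (K.form.eq_of_add e).symm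
  have h3 : p + K.T p ≠ p := fun e => hT (by simpa using e)
  have h4 : p + K.T p ≠ K.T p := fun e => hp0 (by simpa using e)
  rw [← SetLike.coe_sort_coe, Nat.card_coe_set_eq]
  have : ((K.line p : AddSubgroup V) : Set V) = ↑({0, p, K.T p, p + K.T p} : Finset V) := by
    ext v
    simp [K.mem_line]
  rw [this, Set.ncard_coe_finset]
  simp [hp0.symm, hT.symm, hs.symm, hTp.symm, h3.symm, h4.symm]

/-- Double orthogonal of a line inside the commutator space. -/
theorem Conf.mem_line_of_perp {p u : V} (hp : p ∈ K.movD) (hp0 : p ≠ 0) (hu : u ∈ K.movD)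
    (h : ∀ k ∈ K.movD, β k p = 0 → β k (K.T p) = 0 → β k u = 0) : u ∈ K.line p := by
  haveI := K.finite
  set X := K.line p
  set Y := X ⊔ AddSubgroup.closure {u}
  have hX : X ≤ K.movD := K.line_le hp (K.T_mem_D hp)
  have hY : Y ≤ K.movD := sup_le hX ((AddSubgroup.closure_le _).2 (by simpa using hu))
  have hperp : K.movD ⊓ K.form.perp (X : Set V) ≤ K.movD ⊓ K.form.perp (Y : Set V) := by
    rintro k ⟨hk, hk'⟩
    refine ⟨hk, K.form.mem_perp.2 fun y hy => ?_⟩
    obtain ⟨a, ha, b, hb, rfl⟩ := AddSubgroup.mem_sup.1 hy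
    rw [K.form.add_right, K.form.mem_perp.1 hk' a ha, zero_add]
    refine K.form.perp_closure ?_ hb
    intro w hw
    rw [Set.mem_singleton_iff.1 hw]
    exact h k hk (K.form.mem_perp.1 hk' p (K.self_mem_line p))
      (K.form.mem_perp.1 hk' _ (K.T_mem_line' p))
  have e1 := K.form.card_perp K.nondeg_D hX
  have e2 := K.form.card_perp K.nondeg_D hY
  have hle := Nat.card_le_card_of_injective (AddSubgroup.inclusion hperp)
    (AddSubgroup.inclusion_injective _)
  have hYX : Nat.card Y ≤ Nat.card X := by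
    by_contra hlt
    have := Nat.mul_lt_mul_of_lt_of_le (not_le.1 hlt) hle Nat.card_pos
    omega
  have hXY : X = Y := AddSubgroup.eq_of_le_of_card_ge le_sup_left hYX
  rw [hXY]
  exact le_sup_right (a := X) (AddSubgroup.subset_closure rfl)

/-- `g + 1`. -/
def Conf.N (g : ↥Hs) : V →+ V where
  toFun v := g • v + v
  map_zero' := by rw [smul_zero]; exact K.form.two 0
  map_add' u v := by rw [smul_add]; abel

theorem Conf.N_apply (g : ↥Hs) (v : V) : K.N g v = g • v + v := rfl

theorem Conf.N_eq_zero {g : ↥Hs} {v : V} : K.N g v = 0 ↔ g • v = v :=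
  ⟨fun h => K.form.eq_of_add h, fun h => by rw [K.N_apply, h, K.form.two]⟩

theorem Conf.N_adjoint {g : ↥Hs} (hg : g * g = 1) (u v : V) : β (K.N g u) v = β u (K.N g v) :=
  K.form.adjoint (K.beta_inv g) (fun w => by rw [← mul_smul, hg, one_smul]) u v

theorem Conf.N_sq {g : ↥Hs} (hg : g * g = 1) (v : V) : K.N g (K.N g v) = 0 := by
  rw [K.N_eq_zero, K.N_apply, smul_add, ← mul_smul, hg, one_smul, add_comm]

theorem Conf.N_T {g : ↥Hs} (hg : g.1.1 = 1) (v : V) : K.N g (K.T v) = K.T (K.N g v) := by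
  rw [K.N_apply, K.N_apply, K.T_comm g hg, K.T_add]

theorem Conf.smul_D {g : ↥Hs} (hg : g.1.1 = 1) {v : V} (hv : v ∈ K.movD) : g • v ∈ K.movD := by
  show g • v + K.T (g • v) + K.T (K.T (g • v)) = 0
  rw [← K.T_comm g hg, ← K.T_comm g hg, ← smul_add, ← smul_add,
    show v + K.T v + K.T (K.T v) = 0 from hv, smul_zero]

theorem Conf.smul_C {g : ↥Hs} (hg : g.1.1 = 1) {v : V} (hv : v ∈ K.fixC) : g • v ∈ K.fixC := by
  show K.T (g • v) = g • v
  rw [← K.T_comm g hg, show K.T v = v from hv]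

theorem Conf.smul_D_odd {w : ↥Hs} (hw : Perm.sign w.1.1 = -1) {v : V} (hv : v ∈ K.movD) :
    w • v ∈ K.movD := by
  have h1 : K.T (w • v) = w • K.T (K.T v) := by
    rw [K.T_odd w hw, K.T_odd w hw, K.T3]
  have h2 : K.T (K.T (w • v)) = w • K.T v := (K.T_odd w hw v).symm
  show w • v + K.T (w • v) + K.T (K.T (w • v)) = 0
  rw [h2, h1, ← smul_add, ← smul_add, show v + K.T (K.T v) + K.T v = v + K.T v + K.T (K.T v) by abel,
    show v + K.T v + K.T (K.T v) = 0 from hv, smul_zero]

/-- An element acts on the commutator space with rank at most one. -/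
def Conf.R1 (g : ↥Hs) : Prop := ∃ p ∈ K.movD, ∀ v ∈ K.movD, K.N g v ∈ K.line p

/-- The alternating group acts trivially on a set. -/
def Conf.TrivOn (X : AddSubgroup V) : Prop := ∀ (l : Alt6), ∀ v ∈ X, K.ι l • v = v

/-- The action of the alternating group on an invariant subgroup. -/
@[reducible] def Conf.act (X : AddSubgroup V) (hX : ∀ l : Alt6, ∀ v ∈ X, K.ι l • v ∈ X) :
    DistribMulAction Alt6 ↥X where
  smul l v := ⟨K.ι l • (v : V), hX l v v.2⟩
  one_smul v := Subtype.ext (by show K.ι 1 • (v : V) = v; rw [map_one, one_smul])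
  mul_smul a b v := Subtype.ext (by
    show K.ι (a * b) • (v : V) = K.ι a • K.ι b • (v : V); rw [map_mul, mul_smul])
  smul_zero a := Subtype.ext (smul_zero (K.ι a))
  smul_add a u v := Subtype.ext (smul_add (K.ι a) (u : V) v)

theorem Conf.trivOn_of_fixed {X : AddSubgroup V} (hX : ∀ l : Alt6, ∀ v ∈ X, K.ι l • v ∈ X)
    {l : Alt6} (hl : l ≠ 1) (hfix : ∀ v ∈ X, K.ι l • v = v) : K.TrivOn X := by
  intro l' v hv
  letI := K.act X hX
  exact congrArg Subtype.val (trivial_of_fixed (X := ↥X) hl (fun u => Subtype.ext (hfix u u.2)) l' ⟨v, hv⟩)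

theorem Conf.trivOn_small {X : AddSubgroup V} (hX : ∀ l : Alt6, ∀ v ∈ X, K.ι l • v ∈ X)
    (hc : Nat.card X ≤ 5) : K.TrivOn X := by
  intro l v hv
  haveI := K.finite
  letI := K.act X hX
  exact congrArg Subtype.val (trivial_of_small (X := ↥X) hc l ⟨v, hv⟩)

/-- A nondegenerate invariant subgroup of order 16 is centralized by `A₆`. -/
theorem Conf.trivOn_sixteen {X : AddSubgroup V} (hX : ∀ l : Alt6, ∀ v ∈ X, K.ι l • v ∈ X)
    (hc : Nat.card X = 16) (hnd : ∀ v ∈ X, (∀ w ∈ X, β v w = 0) → v = 0) : K.TrivOn X := by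
  haveI := K.finite
  by_contra hnt
  letI := K.act X hX
  have hnt' : ¬ ∀ (l : Alt6) (v : ↥X), l • v = v := fun h => hnt fun l v hv =>
    congrArg Subtype.val (h l ⟨v, hv⟩)
  obtain ⟨u, hu⟩ : ∃ u : ↥X, u ≠ 0 := by
    by_contra hno
    push Not at hno
    haveI : Subsingleton ↥X := ⟨fun a b => (hno a).trans (hno b).symm⟩
    rw [Nat.card_of_subsingleton (0 : ↥X)] at hc
    omega
  have hq : ∀ v : ↥X, v ≠ 0 → q (v : V) = q (u : V) := by
    intro v hv
    obtain ⟨l, rfl⟩ := (transitive16 hc hnt' hu).1 v hv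
    exact K.inv _ _
  have hβ : ∀ a b : ↥X, a ≠ 0 → b ≠ 0 → a + b ≠ 0 → β (a : V) b = q (u : V) := by
    intro a b ha hb hab
    have := K.form.q_add (a : V) b
    rw [← AddSubgroup.coe_add, hq _ hab, hq a ha, hq b hb, CharTwo.add_self_eq_zero, zero_add] at this
    exact this.symm
  have hu0 : (u : V) ≠ 0 := fun e => hu (Subtype.ext e)
  have h2 : ∀ a b : ↥X, a + b = 0 → a = b := fun a b e =>
    Subtype.ext (K.form.eq_of_add (congrArg Subtype.val e))
  -- three vectors force the common value to vanish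
  have hzero : q (u : V) = 0 := by
    classical
    haveI : Fintype ↥X := Fintype.ofFinite _
    obtain ⟨b, hb⟩ : ∃ b : ↥X, b ∉ ({0, u} : Finset ↥X) := by
      by_contra hno
      push Not at hno
      have h5 := Finset.card_le_card (show (Finset.univ : Finset ↥X) ⊆ {0, u} from fun a _ => hno a)
      rw [Finset.card_univ, ← Nat.card_eq_fintype_card, hc] at h5
      exact absurd (h5.trans Finset.card_le_two) (by norm_num)
    obtain ⟨c, hcm⟩ : ∃ c : ↥X, c ∉ ({0, u, b, u + b} : Finset ↥X) := by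
      by_contra hno
      push Not at hno
      have h5 := Finset.card_le_card
        (show (Finset.univ : Finset ↥X) ⊆ {0, u, b, u + b} from fun a _ => hno a)
      rw [Finset.card_univ, ← Nat.card_eq_fintype_card, hc] at h5
      exact absurd (h5.trans Finset.card_le_four) (by norm_num)
    simp only [Finset.mem_insert, Finset.mem_singleton, not_or] at hb hcm
    obtain ⟨hb0, hbu⟩ := hb
    obtain ⟨hc0, hcu, hcb, hcub⟩ := hcm
    have hbc : b + c ≠ 0 := fun e => hcb (h2 _ _ e).symm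
    have hubc : u + (b + c) ≠ 0 := fun e => hcub (by
      rw [h2 _ _ e]
      exact Subtype.ext (by
        show (c : V) = (b : V) + c + b
        rw [show (b : V) + c + b = c + ((b : V) + b) by abel, K.form.two, add_zero]))
    have h1 := hβ u (b + c) hu hbc hubc
    rw [AddSubgroup.coe_add, K.form.add_right, hβ u b hu hb0 (fun e => hbu (h2 _ _ e).symm),
      hβ u c hu hc0 (fun e => hcu (h2 _ _ e).symm), CharTwo.add_self_eq_zero] at h1
    exact h1.symm
  refine hu0 (hnd _ u.2 fun w hw => ?_)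
  by_cases hw0 : (⟨w, hw⟩ : ↥X) = 0
  · rw [show w = 0 from congrArg Subtype.val hw0, K.form.zero_right]
  by_cases huw : u + ⟨w, hw⟩ = 0
  · rw [← show (u : V) = w from congrArg Subtype.val (h2 _ _ huw), K.form.self]
  exact (hβ u ⟨w, hw⟩ hu hw0 huw).trans hzero

end CfsgLib.TriSix
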