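import Cfsg.Agent.TriSix.Lines

/-!
There is no vector with the properties collected in `Bad`.
-/

set_option autoImplicit false
set_option linter.unusedSectionVars false

namespace CfsgLib.TriSix

open Equiv

theorem c3_pow_facts : ∀ i j : Fin 3,
    Perm.sign ((c3 ^ (j : ℕ) * 1)⁻¹ * (c3 ^ (i : ℕ) * 1)) = 1 ∧
      ((c3 ^ (j : ℕ) * 1)⁻¹ * (c3 ^ (i : ℕ) * 1) = 1 → i = j) := by decide

variable {Hs : Subgroup Amb} {V : Type*} [AddCommGroup V] [DistribMulAction ↥Hs V]
  {q : V → ZMod 2} {β : V → V → ZMod 2} {W : Subgroup ↥Hs} {x : V} {S : AddSubgroup V}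
  (B : Bad Hs V q β W x S)
include B

local notation "K" => Bad.conf B

theorem Bad.card_W0_four : Nat.card B.W0 = 4 := by
  have h1 := B.card
  have h2 := B.card_S.1
  have h3 := B.card_W0
  rw [h2] at h1
  omega

theorem Bad.τ_pow_cases {h : ↥Hs} (hh : h • x = x) (he : Perm.sign h.1.1 = 1) : h.1.1 = 1 := by
  obtain ⟨w, hw, hwo⟩ := B.odd
  rcases B.first_fix hh w hw hwo with e | e
  · exact e
  · rw [e, hwo] at he
    exact absurd he (by decide)

/-- An alternating element mapping the vector into its line fixes it. -/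
theorem Bad.fix_of_line {n : Alt6} (hn : (K).ι n • x ∈ (K).line x) :
    (K).ι n • x = x ∧ ∀ l ∈ B.WL, n * l * n⁻¹ ∈ B.WL := by
  have hne : (K).ι n • x ≠ 0 := fun e => B.ne (by
    have h2 := congrArg (fun v : V => ((K).ι n)⁻¹ • v) e
    simpa using h2)
  have hfix : (K).ι n • x = x := by
    rcases hn with e | e | e | e
    · exact absurd e hne
    · exact e
    · have h1 : ((K).τ * ((K).τ * (K).ι n)) • x = x := by
        rw [mul_smul, mul_smul, e]
        exact (K).T3 x
      have h2 := B.τ_pow_cases h1 (by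
        show Perm.sign (c3 * (c3 * 1)) = 1
        decide)
      exact absurd h2 (show c3 * (c3 * 1) ≠ 1 by decide)
    · have h1 : ((K).τ * (K).ι n) • x = x := by
        rw [mul_smul, e]
        rw [← B.TT]
        exact (K).T3 x
      have h2 := B.τ_pow_cases h1 (by
        show Perm.sign (c3 * 1) = 1
        decide)
      exact absurd h2 (show c3 * 1 ≠ 1 by decide)
  refine ⟨hfix, fun l hl => ?_⟩
  have := B.norm _ hfix _ hl
  show (K).ι (n * l * n⁻¹) ∈ W
  rwa [map_mul, map_mul, map_inv]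

/-- The even case: `W0` lies in the alternating group. -/
theorem Bad.false_even (hev : ∀ g ∈ B.W0, Perm.sign g.1.2 = 1) : False := by
  classical
  haveI := (K).finite
  obtain ⟨w, hw, hwo⟩ := B.odd
  have hWL4 : Nat.card B.WL = 4 := by
    rw [← B.card_W0_four]
    refine Nat.card_eq_of_bijective (fun l => ⟨(K).ι l.1, B.ι_mem_W0 l.2⟩) ⟨fun a b e =>
      Subtype.ext ((K).ι_inj (congrArg Subtype.val e)), fun g => ?_⟩
    obtain ⟨l, hl⟩ := B.eq_ι g.2.2 (hev g.1 g.2)
    exact ⟨⟨l, show (K).ι l ∈ W by rw [hl]; exact g.2.1⟩, Subtype.ext hl⟩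
  obtain ⟨hS16, hdec⟩ := B.card_S
  have hline := B.card_line'
  -- an element killing `S` is trivial
  have killS : ∀ l ∈ B.WL, (∀ e ∈ S, (K).N ((K).ι l) e = 0) → l = 1 := by
    intro l hl h
    by_contra hl1
    refine B.not_R1 (B.invol_WL hl) hl1 (B.R1_of_kill_H (B.ι_mem_W0 hl) fun m hm => ?_)
    obtain ⟨e, he, e', he', rfl⟩ := hdec m hm
    rw [map_add, (K).N_T rfl, h e he, h e' he', (K).T_zero, add_zero]
  -- common fixed vectors lie on the line
  have hfixed : ∀ v : V, (∀ l ∈ B.WL, (K).N ((K).ι l) v = 0) → v ∈ (K).line x := by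
    intro v hv
    obtain ⟨g, hg, hg1⟩ := B.exists_WL
    have hvH : v ∈ B.H := B.ker_le_H hg hg1 (hv g hg)
    obtain ⟨e, he, e', he', rfl⟩ := hdec v hvH
    have key : ∀ u ∈ S, (∀ l ∈ B.WL, (K).N ((K).ι l) u = 0) → u ∈ (K).line x := by
      intro u hu hu0
      by_contra hux
      set Y := (K).line x ⊔ AddSubgroup.closure {u}
      have hY : (K).line x < Y := lt_of_le_of_ne le_sup_left fun e => hux (by
        rw [e]; exact le_sup_right (a := (K).line x) (AddSubgroup.subset_closure rfl))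
      have hYS : Y ≤ S := sup_le B.line_le_S ((AddSubgroup.closure_le _).2 (by simpa using hu))
      have hY8 := (K).form.card_double hY
      have hkY : ∀ l ∈ B.WL, ∀ y ∈ Y, (K).N ((K).ι l) y = 0 := by
        intro l hl y hy
        obtain ⟨a, ha, b, hb, rfl⟩ := AddSubgroup.mem_sup.1 hy
        have : AddSubgroup.closure ({u} : Set V) ≤ ((K).N ((K).ι l)).ker :=
          (AddSubgroup.closure_le _).2 (by simpa using hu0 l hl)
        rw [map_add, B.fix_line (B.ι_mem_W0 hl) ha, zero_add]
        exact this hb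
      by_cases hYS' : S ≤ Y
      · obtain ⟨g, hg, hg1⟩ := B.exists_WL
        exact hg1 (killS g hg fun e he => hkY g hg e (hYS' he))
      obtain ⟨e₂, he₂, he₂Y⟩ := SetLike.not_le_iff_exists.1 hYS'
      have hZ : Y < Y ⊔ AddSubgroup.closure {e₂} := lt_of_le_of_ne le_sup_left fun e => he₂Y (by
        rw [e]; exact le_sup_right (a := Y) (AddSubgroup.subset_closure rfl))
      have hZ2 := (K).form.card_double hZ
      have hZS : Y ⊔ AddSubgroup.closure {e₂} = S := AddSubgroup.eq_of_le_of_card_ge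
        (sup_le hYS ((AddSubgroup.closure_le _).2 (by simpa using he₂))) (by omega)
      let f : ↥B.WL → Bool := fun l => decide ((K).N ((K).ι l.1) e₂ = 0)
      haveI := Fintype.ofFinite ↥B.WL
      obtain ⟨a, b, hab, hf⟩ := Fintype.exists_ne_map_eq_of_card_lt f (by
        rw [Fintype.card_bool, ← Nat.card_eq_fintype_card, hWL4]; norm_num)
      refine hab ?_
      have hsame : (K).N ((K).ι a.1) e₂ = (K).N ((K).ι b.1) e₂ := by
        have ha := B.small e₂ he₂ _ a.2
        have hb := B.small e₂ he₂ _ b.2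
        simp only [f, decide_eq_decide] at hf
        rcases ha with ha | ha <;> rcases hb with hb | hb
        · rw [(K).N_apply, (K).N_apply, ha, hb]
        · exact absurd (hb.symm.trans (hf.1 ha)) B.ne
        · exact absurd (ha.symm.trans (hf.2 hb)) B.ne
        · rw [(K).N_apply, (K).N_apply, ha, hb]
      have hprod : a.1 * b.1 ∈ B.WL := mul_mem a.2 b.2
      have h1 := killS _ hprod fun e he => by
        rw [← hZS] at he
        obtain ⟨y, hy, c, hc, rfl⟩ := AddSubgroup.mem_sup.1 he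
        rw [map_add, hkY _ hprod y hy, zero_add]
        have : AddSubgroup.closure ({e₂} : Set V) ≤ ((K).N ((K).ι (a.1 * b.1))).ker := by
          refine (AddSubgroup.closure_le _).2 ?_
          simp only [Set.singleton_subset_iff, SetLike.mem_coe, AddMonoidHom.mem_ker]
          rw [(K).N_eq_zero, map_mul, mul_smul]
          have e2 : (K).ι a.1 • e₂ = (K).ι b.1 • e₂ := by
            have := hsame
            rw [(K).N_apply, (K).N_apply] at this
            exact add_right_cancel this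
          rw [← e2, ← mul_smul, B.invol _ a.2, one_smul]
        exact this hc
      exact Subtype.ext (by
        rw [eq_inv_of_mul_eq_one_left h1, inv_eq_of_mul_eq_one_right (B.invol_WL b.2)])
    have hz : ∀ l ∈ B.WL, (K).N ((K).ι l) e = 0 ∧ (K).N ((K).ι l) e' = 0 := by
      intro l hl
      have h := hv l hl
      rw [map_add, (K).N_T rfl] at h
      rcases B.small e he _ hl with h1 | h1 <;> rcases B.small e' he' _ hl with h2 | h2
      · exact ⟨h1, h2⟩
      all_goals rw [(K).N_apply, h1, (K).N_apply, h2] at h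
      · rw [zero_add] at h
        exact absurd (show x = 0 by rw [← (K).T3 x, h, (K).T_zero, (K).T_zero]) B.ne
      · rw [(K).T_zero, add_zero] at h
        exact absurd h B.ne
      · exact absurd ((K).form.eq_of_add h).symm B.T_ne
    exact add_mem (key e he fun l hl => (hz l hl).1) (B.T_mem_X (key e' he' fun l hl => (hz l hl).2))
  -- normalizing elements fix the vector
  have hnorm : ∀ n : Alt6, (∀ l ∈ B.WL, n⁻¹ * l * n ∈ B.WL) → (K).ι n • x = x := by
    intro n hn
    refine (B.fix_of_line (hfixed _ fun l hl => ?_)).1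
    rw [(K).N_eq_zero]
    have h1 := B.fix _ (show (K).ι (n⁻¹ * l * n) ∈ W from hn l hl)
    calc (K).ι l • (K).ι n • x = (K).ι n • (K).ι (n⁻¹ * l * n) • x := by
          rw [← mul_smul, ← mul_smul, ← map_mul, ← map_mul]
          congr 2
          group
      _ = (K).ι n • x := by rw [h1]
  obtain ⟨g, hg, hg1⟩ := B.exists_WL
  have hgg := B.invol_WL hg
  set Cg := Subgroup.centralizer ({g} : Set Alt6)
  have hWLC : B.WL ≤ Cg := fun l hl => Subgroup.mem_centralizer_singleton_iff.2
    ((K).ι_inj (by rw [map_mul, map_mul]; exact B.comm _ hl _ hg))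
  haveI hN : (B.WL.subgroupOf Cg).Normal := Subgroup.normal_of_index_eq_two (by
    have := (B.WL.subgroupOf Cg).card_mul_index
    rw [Nat.card_congr (Subgroup.subgroupOfEquivOfLe hWLC).toEquiv, hWL4, (card_cent hgg hg1).1]
      at this
    omega)
  obtain ⟨g', hg'c, hg'2, hg'W⟩ : ∃ g' : Alt6, g' * g = g * g' ∧ g' * g' = 1 ∧ g' ∉ B.WL := by
    by_contra hno
    push Not at hno
    have h6 := (card_cent hgg hg1).2
    have := Nat.card_le_card_of_injective (fun s : {s : Alt6 // s * g = g * s ∧ s * s = 1} =>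
      (⟨s.1, hno s.1 s.2.1 s.2.2⟩ : ↥B.WL)) fun a b e => Subtype.ext (congrArg (fun v : ↥B.WL => (v : Alt6)) e)
    rw [h6, hWL4] at this
    omega
  have hg'1 : g' ≠ 1 := fun e => hg'W (e ▸ one_mem _)
  have hnW : ∀ l ∈ B.WL, g'⁻¹ * l * g' ∈ B.WL := by
    intro l hl
    have := hN.conj_mem ⟨l, hWLC hl⟩ hl
      (⟨g', Subgroup.mem_centralizer_singleton_iff.2 hg'c⟩⁻¹ : ↥Cg)
    simpa [Subgroup.mem_subgroupOf] using this
  have hg'x := hnorm g' hnW
  obtain ⟨γ, hγ⟩ := invol_conj hg'2 hg'1 hgg hg1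
  set y₀ := (K).ι γ • x
  have hy₀U : (K).N ((K).ι g) y₀ = 0 := by
    rw [(K).N_eq_zero]
    calc (K).ι g • (K).ι γ • x = (K).ι γ • (K).ι g' • x := by
          rw [← mul_smul, ← mul_smul, ← map_mul, ← map_mul, ← hγ]
          congr 2
          group
      _ = y₀ := by rw [hg'x]
  have hnotW : ¬ ∀ l ∈ B.WL, γ * l * γ⁻¹ ∈ B.WL := by
    intro h
    haveI := Fintype.ofFinite ↥B.WL
    have hsurj : Function.Surjective (fun l : ↥B.WL => (⟨γ * l.1 * γ⁻¹, h l.1 l.2⟩ : ↥B.WL)) :=
      Finite.surjective_of_injective fun a b e => Subtype.ext (by simpa using congrArg Subtype.val e)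
    obtain ⟨l, hl⟩ := hsurj ⟨g, hg⟩
    have e : γ * l.1 * γ⁻¹ = γ * g' * γ⁻¹ := (congrArg Subtype.val hl).trans hγ.symm
    exact hg'W (mul_left_cancel (mul_right_cancel e) ▸ l.2)
  have hy₀X : y₀ ∉ (K).line x := fun h => hnotW (B.fix_of_line h).2
  -- a vector of `S` fixed by `g`
  set U := ((K).N ((K).ι g)).ker
  obtain ⟨s, hsS, hsU, hsX⟩ : ∃ s ∈ S, s ∈ U ∧ s ∉ (K).line x := by
    by_contra hno
    push Not at hno
    let f : ↥S →+ ↥((K).line x) :=
      { toFun := fun e => ⟨(K).N ((K).ι g) e, B.N_H (B.ι_mem_W0 hg) (B.S_le_H e.2)⟩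
        map_zero' := Subtype.ext (by simp)
        map_add' := fun a b => Subtype.ext (by simp) }
    have h1 := AddSubgroup.card_eq_card_quotient_mul_card_addSubgroup f.ker
    rw [hS16, Nat.card_congr (QuotientAddGroup.quotientKerEquivRange f).toEquiv] at h1
    have h2 : Nat.card f.range ≤ 2 := by
      have : ∀ e : f.range, (e.1 : V) = 0 ∨ (e.1 : V) = x := by
        rintro ⟨_, a, rfl⟩
        exact B.small a.1 a.2 _ hg
      let k : f.range → Bool := fun e => decide ((e.1 : V) = 0)
      refine (Nat.card_le_card_of_injective k fun a b e => ?_).trans (by simp)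
      simp only [k, decide_eq_decide] at e
      refine Subtype.ext (Subtype.ext ?_)
      rcases this a with ha | ha <;> rcases this b with hb | hb <;> rw [ha, hb] at e ⊢
      · exact absurd (e.1 rfl) B.ne
      · exact absurd (e.2 rfl) B.ne
    have h3 : Nat.card f.ker ≤ 4 := by
      rw [← hline]
      refine Nat.card_le_card_of_injective (fun e => ⟨e.1.1, hno e.1.1 e.1.2 ?_⟩) fun a b e =>
        Subtype.ext (Subtype.ext (by simpa using congrArg Subtype.val e))
      exact congrArg Subtype.val e.2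
    nlinarith
  obtain ⟨hU16, hUiso⟩ := B.ker_invol hgg hg1
  have hTU : ∀ v ∈ U, (K).T v ∈ U := fun v hv => by
    rw [AddMonoidHom.mem_ker, (K).N_T rfl, show (K).N ((K).ι g) v = 0 from hv, (K).T_zero]
  have hlineU : (K).line x ≤ U := fun v hv => B.fix_line (B.ι_mem_W0 hg) hv
  have hsup : U = (K).line x ⊔ (K).line s := by
    refine (AddSubgroup.eq_of_le_of_card_ge (sup_le hlineU ((K).line_le hsU (hTU s hsU))) ?_).symm
    rw [hU16]
    set U' := (K).line x ⊔ (K).line s
    have hT' : ∀ v ∈ U', (K).T v ∈ U' := by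
      intro v hv
      obtain ⟨a, ha, b, hb, rfl⟩ := AddSubgroup.mem_sup.1 hv
      rw [(K).T_add]
      exact add_mem (AddSubgroup.mem_sup_left (B.T_mem_X ha))
        (AddSubgroup.mem_sup_right ((K).T_mem_line (B.fixed_point_free s) hb))
    have hlt : (K).line x < U' := lt_of_le_of_ne le_sup_left fun e => hsX (by
      rw [e]; exact AddSubgroup.mem_sup_right ((K).self_mem_line s))
    have h2 := (K).form.card_double hlt
    rw [hline] at h2
    rcases (K).pow_four (X := U') (fun v _ => B.fixed_point_free v) hT' with e | e | e | e | e <;>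
      omega
  obtain ⟨h, hhS, hhne, hh2, hhT⟩ : ∃ h : ↥Hs, h • x ∈ S ∧ h • x ∉ (K).line x ∧
      h.1.2 = (γ : Perm (Fin 6)) ∧ ∀ v, h • (K).T v = (K).T (h • v) := by
    obtain ⟨a, ha, b, hb, hab⟩ := AddSubgroup.mem_sup.1 (hsup ▸ (show y₀ ∈ U from hy₀U))
    have mkS : ∀ u, u ∈ (K).line x → u + s ∈ S ∧ u + s ∉ (K).line x := fun u hu =>
      ⟨add_mem (B.line_le_S hu) hsS, fun h => hsX ((AddSubgroup.add_mem_cancel_left _ hu).1 h)⟩
    have hcomm : ∀ v, (K).τ • (K).T v = (K).T ((K).τ • v) := fun v => rfl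
    rcases hb with hb | hb | hb | hb <;> rw [hb] at hab
    · exact absurd (by rw [← hab, add_zero]; exact ha) hy₀X
    · have e : (K).ι γ • x = a + s := hab.symm
      exact ⟨(K).ι γ, e ▸ (mkS a ha).1, e ▸ (mkS a ha).2, rfl, fun v => (K).T_comm_ι γ v⟩
    · have e : ((K).τ * ((K).τ * (K).ι γ)) • x = (K).T ((K).T a) + s := by
        rw [mul_smul, mul_smul]
        show (K).T ((K).T y₀) = _
        rw [← hab, (K).T_add, (K).T_add, (K).T3]
      refine ⟨_, e ▸ (mkS _ (B.T_mem_X (B.T_mem_X ha))).1,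
        e ▸ (mkS _ (B.T_mem_X (B.T_mem_X ha))).2, by show 1 * (1 * (γ : Perm (Fin 6))) = _; simp, fun v => ?_⟩
      rw [mul_smul, mul_smul, mul_smul, mul_smul, (K).T_comm_ι]
      rfl
    · have e : ((K).τ * (K).ι γ) • x = (K).T a + s := by
        rw [mul_smul]
        show (K).T y₀ = _
        rw [← hab, (K).T_add, ← B.TT, (K).T3]
      refine ⟨_, e ▸ (mkS _ (B.T_mem_X ha)).1, e ▸ (mkS _ (B.T_mem_X ha)).2,
        by show 1 * (γ : Perm (Fin 6)) = _; simp, fun v => ?_⟩
      rw [mul_smul, mul_smul, (K).T_comm_ι]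
      rfl
  have hcount := B.count h hhS fun e => hhne (by rw [e]; exact (K).self_mem_line x)
  rw [hS16] at hcount
  -- the groups meet in at most two elements
  have hW2 : Nat.card {g : ↥Hs // g ∈ W ∧ h⁻¹ * g * h ∈ W} ≤ 2 := by
    have key : ∀ g : ↥Hs, g ∈ W → h⁻¹ * g * h ∈ W → g.1.1 = 1 → g = 1 := by
      intro u hu hu' hu1
      obtain ⟨k, rfl⟩ := B.eq_ι hu1 (hev u ⟨hu, hu1⟩)
      have hk : k ∈ B.WL := hu
      by_contra hk'
      have hk1 : k ≠ 1 := fun e => hk' (by rw [e, map_one])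
      have hcon : γ⁻¹ * k * γ ∈ B.WL := by
        show (K).ι (γ⁻¹ * k * γ) ∈ W
        refine (show (K).ι (γ⁻¹ * k * γ) = h⁻¹ * (K).ι k * h from Subtype.ext (Prod.ext ?_ ?_)) ▸ hu'
        · show (1 : Perm (Fin 3)) = h.1.1⁻¹ * 1 * h.1.1
          simp
        · show ((γ⁻¹ * k * γ : Alt6) : Perm (Fin 6)) = h.1.2⁻¹ * (k : Perm (Fin 6)) * h.1.2
          rw [hh2]; simp
      have hkk := B.invol_WL hk
      refine hnotW (four_eq hkk hk1 hWL4 (fun l hl => Subgroup.mem_centralizer_singleton_iff.2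
        ((K).ι_inj (by rw [map_mul, map_mul]; exact B.comm _ hl _ hk))) fun l hl => ?_)
      rw [Subgroup.mem_centralizer_singleton_iff]
      have h1 : l * (γ⁻¹ * k * γ) = (γ⁻¹ * k * γ) * l :=
        (K).ι_inj (by rw [map_mul, map_mul ((K).ι) _ l]; exact B.comm _ hl _ hcon)
      calc γ * l * γ⁻¹ * k = γ * (l * (γ⁻¹ * k * γ)) * γ⁻¹ := by group
        _ = γ * ((γ⁻¹ * k * γ) * l) * γ⁻¹ := by rw [h1]
        _ = k * (γ * l * γ⁻¹) := by group
    let f : {g : ↥Hs // g ∈ W ∧ h⁻¹ * g * h ∈ W} → Bool := fun g => decide (g.1.1.1 = 1)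
    refine (Nat.card_le_card_of_injective f fun a b e => ?_).trans (by simp)
    simp only [f, decide_eq_decide] at e
    have hm : a.1 * b.1 ∈ W := mul_mem a.2.1 b.2.1
    have hm' : h⁻¹ * (a.1 * b.1) * h ∈ W := by
      rw [show h⁻¹ * (a.1 * b.1) * h = (h⁻¹ * a.1 * h) * (h⁻¹ * b.1 * h) by group]
      exact mul_mem a.2.2 b.2.2
    have h1 : (a.1 * b.1).1.1 = 1 := by
      show a.1.1.1 * b.1.1.1 = 1
      rcases B.first a.2.1 hw hwo with ha | ha
      · rw [ha, e.1 ha, mul_one]
      · rcases B.first b.2.1 hw hwo with hb | hb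
        · rw [e.2 hb, hb, mul_one]
        · rw [ha, hb, (odd_three _ hwo).2]
    exact Subtype.ext (by
      rw [eq_inv_of_mul_eq_one_left (key _ hm hm' h1), inv_eq_of_mul_eq_one_right (B.invol _ b.2.1)])
  -- the subspaces meet in at most four elements
  have hS4 : Nat.card {e : V // e ∈ S ∧ h⁻¹ • e ∈ S} ≤ 4 := by
    set y := h • x
    have hTy : (K).T y = h • (K).T x := (hhT x).symm
    let S' : AddSubgroup V := S ⊓ S.comap (DistribSMul.toAddMonoidHom V h⁻¹)
    have hS' : Nat.card {e : V // e ∈ S ∧ h⁻¹ • e ∈ S} = Nat.card S' := rfl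
    set E8 := S ⊓ (K).form.perp ({(K).T y} : Set V)
    have hsub : S' ≤ E8 := fun e he => ⟨he.1, (K).form.mem_perp.2 fun u hu => by
      rw [Set.mem_singleton_iff.1 hu, hTy, ← smul_inv_smul h e, (K).beta_inv]
      exact (B.mem_H.1 (B.S_le_H he.2)).2⟩
    have hyX : ∀ v, h • v ∈ S → h • (K).T v ∈ S → h • v ∈ (K).line x := fun v h1 h2 => by
      rw [hhT] at h2
      exact B.real hwo (B.x_line (B.small _ h1 w hw)) (B.x_line (B.small _ h2 w hw))
    have hE8 : E8 < S := lt_of_le_of_ne inf_le_left fun e => by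
      have hperp : (K).form.perp (S : Set V) = S := by
        refine (AddSubgroup.eq_of_le_of_card_ge (fun u hu => (K).form.mem_perp.2 fun v hv =>
          B.iso u hu v hv) ?_).symm
        have h := (K).form.card_perp B.nondeg_top (X := S) le_top
        rw [top_inf_eq, AddSubgroup.card_top, (K).card, hS16] at h
        omega
      have hTyS : (K).T y ∈ S := hperp.le ((K).form.mem_perp.2 fun v hv => by
        have hv' : v ∈ E8 := e.ge hv
        rw [(K).form.symm]
        exact (K).form.mem_perp.1 hv'.2 _ rfl)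
      refine hhne (hyX x hhS ?_)
      rw [← hTy]; exact hTyS
    have h8 := (K).form.card_double hE8
    rw [hS', ← hline]
    by_contra hgt
    rw [hline] at hgt
    have hEq : S' = E8 := by
      refine le_antisymm hsub ?_
      by_contra hle
      have hlt : S' < E8 := lt_of_le_not_ge hsub hle
      have := (K).form.card_double hlt
      omega
    have hx8 : ∀ v ∈ (K).line x, v ∈ S' := fun v hv => hEq ▸ ⟨B.line_le_S hv,
      (K).form.mem_perp.2 fun u hu => by
        rw [Set.mem_singleton_iff.1 hu]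
        have hyH : y ∈ B.H := B.S_le_H hhS
        have h1 := (B.T_mem_H hyH) v hv
        rwa [(K).form.symm]⟩
    have h1 : h⁻¹ • x ∈ S := (hx8 x ((K).self_mem_line x)).2
    have h2 : (K).T (h⁻¹ • x) ∈ S := by
      have h3 : h⁻¹ • (K).T x = (K).T (h⁻¹ • x) := by
        refine MulAction.injective h ?_
        show h • h⁻¹ • (K).T x = h • (K).T (h⁻¹ • x)
        rw [hhT, smul_inv_smul, smul_inv_smul]
      rw [← h3]
      exact (hx8 _ ((K).T_mem_line' x)).2
    have h3 : h⁻¹ • x ∈ (K).line x := B.real hwo (B.x_line (B.small _ h1 w hw))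
      (B.x_line (B.small _ h2 w hw))
    refine hhne ?_
    rcases h3 with e | e | e | e
    · exact absurd (by simpa using congrArg (h • ·) e) B.ne
    · show y ∈ _
      have e' : x = y := by simpa using congrArg (h • ·) e
      exact e' ▸ (K).self_mem_line x
    · have e' : x = (K).T y := by simpa [hhT] using congrArg (h • ·) e
      show y ∈ _
      have e2 := congrArg (K).T (congrArg (K).T e')
      rw [(K).T3] at e2
      rw [← e2]
      exact B.T_mem_X ((K).T_mem_line' x)
    · have e' : x = y + (K).T y := by simpa [hhT] using congrArg (h • ·) e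
      show y ∈ _
      have e2 := congrArg (K).T e'
      rw [← B.TT, (K).T3] at e2
      rw [← e2]
      exact (K).T_mem_line' x
  have := Nat.mul_le_mul hW2 hS4
  omega

/-- The odd case: a real form makes the alternating group transitive on 15 points. -/
theorem Bad.false_odd {o : ↥Hs} (ho : o ∈ B.W0) (hos : Perm.sign o.1.2 = -1) : False := by
  classical
  haveI := (K).finite
  obtain ⟨w, hw, hwo⟩ := B.odd
  have hall : ∀ p : Perm (Fin 6), ((1 : Perm (Fin 3)), p) ∈ Hs := by
    intro p
    rcases Int.units_eq_one_or (Perm.sign p) with h | h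
    · exact (K).top _ (map_one _) h
    · have h1 : o.1 * ((1 : Perm (Fin 3)), o.1.2⁻¹ * p) ∈ Hs := mul_mem o.2 ((K).top _ (map_one _)
        (by show Perm.sign (o.1.2⁻¹ * p) = 1; rw [map_mul, map_inv, h, hos]; decide))
      refine (show o.1 * ((1 : Perm (Fin 3)), o.1.2⁻¹ * p) = ((1 : Perm (Fin 3)), p) from
        Prod.ext ?_ ?_) ▸ h1
      · show o.1.1 * 1 = 1
        rw [show o.1.1 = 1 from ho.2, mul_one]
      · exact mul_inv_cancel_left _ _
  obtain ⟨t, htH, ht2⟩ : ∃ t : ↥Hs, Perm.sign t.1.1 = -1 ∧ t.1.2 = 1 :=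
    ⟨⟨w.1 * ((1 : Perm (Fin 3)), w.1.2⁻¹), mul_mem w.2 (hall _)⟩, by
      show Perm.sign (w.1.1 * 1) = -1
      rw [mul_one, hwo], mul_inv_cancel _⟩
  obtain ⟨g, hg, hg1⟩ := B.exists_WL
  have hgg := B.invol_WL hg
  have hWL2 : ∀ l ∈ B.WL, l = 1 ∨ l = g := by
    intro l hl
    by_contra hno
    push Not at hno
    let f : Fin 3 ⊕ Fin 3 → ↥B.W0 := Sum.elim
      (fun i => ⟨(K).ι (![1, g, l] i), B.ι_mem_W0 (by fin_cases i <;> simp [hg, hl, one_mem])⟩)
      (fun i => ⟨o * (K).ι (![1, g, l] i),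
        mul_mem ho (B.ι_mem_W0 (by fin_cases i <;> simp [hg, hl, one_mem]))⟩)
    have hne : ∀ a b : Alt6, o * (K).ι a ≠ (K).ι b := fun a b e => by
      have h1 := congrArg (fun p : ↥Hs => Perm.sign p.1.2) e
      simp only [Subgroup.coe_mul, Prod.snd_mul, map_mul, hos] at h1
      rw [show Perm.sign ((K).ι a).1.2 = 1 from Perm.mem_alternatingGroup.1 a.2,
        show Perm.sign ((K).ι b).1.2 = 1 from Perm.mem_alternatingGroup.1 b.2] at h1
      exact absurd h1 (by decide)
    have hd : Function.Injective ![1, g, l] := by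
      intro i j e
      fin_cases i <;> fin_cases j <;> first
        | rfl
        | exact absurd e hg1
        | exact absurd e hg1.symm
        | exact absurd e hno.1
        | exact absurd e hno.1.symm
        | exact absurd e hno.2
        | exact absurd e hno.2.symm
    have hfi : Function.Injective f := by
      rintro (i | i) (j | j) e <;> have e := congrArg Subtype.val e <;>
        simp only [f, Sum.elim_inl, Sum.elim_inr] at e
      · exact congrArg Sum.inl (hd ((K).ι_inj e))
      · exact absurd e.symm (hne _ _)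
      · exact absurd e (hne _ _)
      · exact congrArg Sum.inr (hd ((K).ι_inj (mul_left_cancel e)))
    have := Nat.card_le_card_of_injective f hfi
    rw [Nat.card_sum, Nat.card_fin, B.card_W0_four] at this
    omega
  letI : DistribMulAction Alt6 V := DistribMulAction.compHom V (K).ι
  set M := MulAction.stabilizer Alt6 x
  have hMc : ∀ l ∈ M, l * g = g * l := by
    intro l hl
    have h1 : (K).ι (l * g * l⁻¹) ∈ W := by
      rw [map_mul, map_mul, map_inv]
      exact B.norm _ hl _ hg
    rcases hWL2 _ h1 with e | e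
    · exact absurd (conj_eq_one_iff.1 e) hg1
    · exact mul_inv_eq_iff_eq_mul.1 e
  set Cg := Subgroup.centralizer ({g} : Set Alt6)
  have hMCg : M ≤ Cg := fun l hl => Subgroup.mem_centralizer_singleton_iff.2 (hMc l hl)
  have hCg8 : Nat.card Cg = 8 := (card_cent hgg hg1).1
  have hM : M = Cg := by
    refine Subgroup.eq_of_le_of_card_ge hMCg ?_
    let orb := MulAction.orbit Alt6 x
    have h360 : Nat.card orb * Nat.card M = 360 := by
      rw [Nat.card_congr (MulAction.orbitEquivQuotientStabilizer Alt6 x),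
        ← Subgroup.card_eq_card_quotient_mul_card_subgroup, card_alt6]
    let Tp : Fin 3 → ↥Hs := ![1, (K).τ, (K).τ * (K).τ]
    let f : Fin 3 × orb → {v : V // v ≠ 0} := fun p => ⟨Tp p.1 • (p.2 : V), by
      obtain ⟨l, hl⟩ := p.2.2
      rw [← hl]
      show Tp p.1 • (K).ι l • x ≠ 0
      rw [← mul_smul]
      exact fun e => B.ne ((smul_eq_zero_iff_eq _).1 e)⟩
    have hf : Function.Injective f := by
      rintro ⟨i, ⟨_, l, rfl⟩⟩ ⟨j, ⟨_, l', rfl⟩⟩ e
      have e1 : Tp i • (K).ι l • x = Tp j • (K).ι l' • x := congrArg Subtype.val e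
      rw [← mul_smul, ← mul_smul] at e1
      have hfix : ((Tp j * (K).ι l')⁻¹ * (Tp i * (K).ι l)) • x = x := by
        rw [mul_smul, e1, inv_smul_smul]
      have hT1 : ∀ k : Fin 3, (Tp k).1.1 = c3 ^ (k : ℕ) := by
        intro k
        fin_cases k <;> rfl
      have h1 := B.τ_pow_cases hfix (by
        show Perm.sign (((Tp j).1.1 * 1)⁻¹ * ((Tp i).1.1 * 1)) = 1
        rw [hT1, hT1]
        exact (c3_pow_facts i j).1)
      have hij : i = j := by
        have h2 : ((Tp j).1.1 * 1)⁻¹ * ((Tp i).1.1 * 1) = 1 := h1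
        rw [hT1, hT1] at h2
        exact (c3_pow_facts i j).2 h2
      subst hij
      exact Prod.ext rfl (Subtype.ext (MulAction.injective (Tp i) (congrArg Subtype.val e)))
    have hle := Nat.card_le_card_of_injective f hf
    rw [Nat.card_prod, Nat.card_fin] at hle
    have h255 : Nat.card {v : V // v ≠ 0} = 255 := by
      haveI := Fintype.ofFinite V
      rw [Nat.card_eq_fintype_card, Fintype.card_subtype_compl, Fintype.card_subtype_eq,
        ← Nat.card_eq_fintype_card, (K).card]
    rw [h255] at hle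
    have hdvd : Nat.card M ∣ 8 := hCg8 ▸ Subgroup.card_dvd_of_le hMCg
    have hle8 := Nat.le_of_dvd (by norm_num) hdvd
    rw [hCg8]
    interval_cases h : Nat.card M <;> omega
  -- the real form
  have htt : ∀ v : V, t • t • v = v := fun v => by
    rw [← mul_smul, show t * t = 1 from Subtype.ext (Prod.ext (odd_three _ htH).2
      (by show t.1.2 * t.1.2 = 1; rw [ht2, one_mul])), one_smul]
  let R : AddSubgroup V := ((K).N t).ker
  have hR : ∀ v, v ∈ R ↔ t • v = v := fun v => (K).N_eq_zero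
  have htι : ∀ (l : Alt6) (v : V), t • (K).ι l • v = (K).ι l • t • v := fun l v => by
    rw [← mul_smul, ← mul_smul]
    congr 1
    refine Subtype.ext (Prod.ext ?_ ?_)
    · show t.1.1 * 1 = 1 * t.1.1
      simp
    · show t.1.2 * (l : Perm (Fin 6)) = (l : Perm (Fin 6)) * t.1.2
      rw [ht2, one_mul, mul_one]
  have hinv : ∀ l : Alt6, ∀ v ∈ R, (K).ι l • v ∈ R := fun l v hv => by
    rw [hR, htι, (hR v).1 hv]
  have hdecR : ∀ v : V, ∃ a ∈ R, ∃ b ∈ R, v = a + (K).T b := by
    intro v
    set b := v + t • v with hb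
    have hbR : t • b = b := by rw [hb, smul_add, htt, add_comm]
    refine ⟨v + (K).T b, (hR _).2 ?_, b, (hR _).2 hbR, ?_⟩
    · rw [smul_add, (K).T_odd t htH, hbR, B.TT b, hb,
        show t • v + (v + t • v + (K).T (v + t • v)) =
          v + (K).T (v + t • v) + (t • v + t • v) by abel, (K).form.two, add_zero]
    · rw [add_assoc, (K).form.two, add_zero]
  have hR16 : Nat.card R = 16 := by
    have h : Nat.card (↥R × ↥R) = 256 := by
      rw [← (K).card]
      refine Nat.card_eq_of_bijective (B.pairMap R) ⟨?_, fun v => ?_⟩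
      · rw [injective_iff_map_eq_zero]
        intro p hp
        have e : (p.1 : V) = (K).T p.2 := (K).form.eq_of_add hp
        have h2 : (p.2 : V) = 0 := by
          have h3 : t • (K).T (p.2 : V) = (K).T p.2 := by rw [← e]; exact (hR _).1 p.1.2
          rw [(K).T_odd t htH, (hR _).1 p.2.2, B.TT] at h3
          exact add_eq_right.1 h3
        exact Prod.ext (Subtype.ext (by rw [e, h2, (K).T_zero]; rfl)) (Subtype.ext h2)
      · obtain ⟨a, ha, b, hb, rfl⟩ := hdecR v
        exact ⟨(⟨a, ha⟩, ⟨b, hb⟩), rfl⟩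
    rw [Nat.card_prod] at h
    nlinarith
  letI := (K).act R hinv
  have hnt : ¬ ∀ (l : Alt6) (v : ↥R), l • v = v := by
    intro h
    refine g₀_sq.2 ((K).ι_inj (((K).faithful _ fun v => ?_).trans (map_one _).symm))
    obtain ⟨a, ha, b, hb, rfl⟩ := hdecR v
    rw [smul_add, (K).T_comm_ι, show (K).ι g₀ • a = a from congrArg Subtype.val (h g₀ ⟨a, ha⟩),
      show (K).ι g₀ • b = b from congrArg Subtype.val (h g₀ ⟨b, hb⟩)]
  obtain ⟨a, ha, b, hb, hxab⟩ := hdecR x
  have huniq : ∀ {a b a' b' : V}, a ∈ R → b ∈ R → a' ∈ R → b' ∈ R →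
      a + (K).T b = a' + (K).T b' → a = a' ∧ b = b' := by
    intro a b a' b' ha hb ha' hb' e
    have e2 : a + a' = (K).T (b + b') := by
      refine (K).form.eq_of_add ?_
      rw [(K).T_add, show a + a' + ((K).T b + (K).T b') = (a + (K).T b) + (a' + (K).T b') by abel, e,
        (K).form.two]
    have h1 : b + b' = 0 := by
      have h3 : t • (K).T (b + b') = (K).T (b + b') := by rw [← e2]; exact (hR _).1 (add_mem ha ha')
      rw [(K).T_odd t htH, (hR _).1 (add_mem hb hb'), B.TT] at h3
      exact add_eq_right.1 h3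
    rw [h1, (K).T_zero] at e2
    exact ⟨(K).form.eq_of_add e2, (K).form.eq_of_add h1⟩
  have hfixab : ∀ l : Alt6, l ∈ M ↔ (K).ι l • a = a ∧ (K).ι l • b = b := by
    intro l
    have e : (K).ι l • x = (K).ι l • a + (K).T ((K).ι l • b) :=
      (congrArg (fun v => (K).ι l • v) hxab).trans (by rw [smul_add, (K).T_comm_ι])
    constructor
    · intro hl
      refine huniq (hinv l a ha) (hinv l b hb) ha hb ?_
      rw [← e, ← hxab]
      exact hl
    · rintro ⟨h1, h2⟩
      show (K).ι l • x = x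
      rw [e, h1, h2, ← hxab]
  have h24 : ∀ u : ↥R, u ≠ 0 → Nat.card ↥(MulAction.stabilizer Alt6 u) = 24 := fun u hu =>
    (transitive16 hR16 hnt hu).2
  have hstab : ∀ u : ↥R, (∀ l : Alt6, (K).ι l • (u : V) = u → l ∈ M) → u ≠ 0 → False := by
    intro u h hu
    have hle : MulAction.stabilizer Alt6 u ≤ M := fun l hl => h l (congrArg Subtype.val hl)
    have := Subgroup.card_le_of_le hle
    rw [h24 u hu, hM, hCg8] at this
    omega
  have hb0 : b ≠ 0 := fun e => hstab ⟨a, ha⟩ (fun l hl => (hfixab l).2 ⟨hl, by rw [e, smul_zero]⟩)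
    fun e' => B.ne (hxab.trans (by rw [e, show a = 0 from congrArg Subtype.val e', (K).T_zero, add_zero]))
  have ha0 : a ≠ 0 := fun e => hstab ⟨b, hb⟩ (fun l hl => (hfixab l).2 ⟨by rw [e, smul_zero], hl⟩)
    fun e' => hb0 (congrArg Subtype.val e')
  obtain ⟨l, hl⟩ := (transitive16 hR16 hnt (v := (⟨a, ha⟩ : ↥R)) fun e => ha0 (congrArg Subtype.val e)).1
    ⟨b, hb⟩ fun e => hb0 (congrArg Subtype.val e)
  have hab : b = a := by
    have hfx : ∀ s : Alt6, s * g = g * s → (K).ι s • a = a ∧ (K).ι s • b = b := fun s hs =>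
      (hfixab s).1 (hM ▸ Subgroup.mem_centralizer_singleton_iff.2 hs)
    have e := fixed_unique (X := ↥R) hgg hg1 (a := ⟨a, ha⟩) (l := l)
      (fun s hs => Subtype.ext (hfx s hs).1)
      (fun s hs => by rw [hl]; exact Subtype.ext (hfx s hs).2)
    rw [hl] at e
    exact congrArg Subtype.val e
  exact hstab ⟨a, ha⟩ (fun l hl => (hfixab l).2 ⟨hl, by rw [hab]; exact hl⟩)
    fun e => ha0 (congrArg Subtype.val e)

/-- No such vector exists. -/
theorem Bad.false : False := by
  by_cases h : ∀ g ∈ B.W0, Perm.sign g.1.2 = 1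
  · exact B.false_even h
  · push Not at h
    obtain ⟨o, ho, hos⟩ := h
    exact B.false_odd ho ((Int.units_eq_one_or _).resolve_left hos)

end CfsgLib.TriSix
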