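import Cfsg.Agent.TriSix.Bad

/-!
The six-dimensional orthogonal of the line through the singular vector, and its real form.
-/

set_option autoImplicit false
set_option linter.unusedSectionVars false

namespace CfsgLib.TriSix

open Equiv

variable {Hs : Subgroup Amb} {V : Type*} [AddCommGroup V] [DistribMulAction ↥Hs V]
  {q : V → ZMod 2} {β : V → V → ZMod 2} {W : Subgroup ↥Hs} {x : V} {S : AddSubgroup V}
  (B : Bad Hs V q β W x S)
include B

local notation "K" => Bad.conf B

theorem Bad.TT (v : V) : (K).T ((K).T v) = v + (K).T v := (K).TT_eq (B.fixed_point_free v)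

theorem Bad.D_top : (K).movD = ⊤ := eq_top_iff.2 fun v _ => B.fixed_point_free v

theorem Bad.nondeg_top : ∀ v ∈ (⊤ : AddSubgroup V), (∀ w ∈ (⊤ : AddSubgroup V), β v w = 0) → v = 0 :=
  fun v _ h => (K).form.nondeg v fun w => h w trivial

theorem Bad.not_R1 {g : Alt6} (hg : g * g = 1) (hg1 : g ≠ 1) : ¬ (K).R1 ((K).ι g) := fun hR =>
  g₀_sq.2 ((K).ι_inj (((K).faithful ((K).ι g₀) fun v =>
    (K).trivOn_of_R1 (B.R1_conj hg hg1 hR) g₀ v (B.fixed_point_free v)).trans (map_one _).symm))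

/-- The orthogonal of the line through the vector. -/
def Bad.H : AddSubgroup V := (K).form.perp ((K).line x : Set V)

theorem Bad.mem_H {m : V} : m ∈ B.H ↔ β m x = 0 ∧ β m ((K).T x) = 0 := by
  constructor
  · intro h
    exact ⟨h x ((K).self_mem_line x), h _ ((K).T_mem_line' x)⟩
  · rintro ⟨h1, h2⟩ u (rfl | rfl | rfl | rfl)
    · exact (K).form.zero_right m
    · exact h1
    · exact h2
    · rw [(K).form.add_right, h1, h2, add_zero]

theorem Bad.qTx : q ((K).T x) = 0 := by rw [(K).T_q, B.qx]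

theorem Bad.xTx : β x ((K).T x) = 0 := by
  have h := (K).form.q_add x ((K).T x)
  rw [← B.TT, (K).T_q, (K).T_q, B.qx, zero_add, zero_add] at h
  exact h.symm

theorem Bad.T_mem_H {m : V} (hm : m ∈ B.H) : (K).T m ∈ B.H := by
  obtain ⟨h1, h2⟩ := B.mem_H.1 hm
  refine B.mem_H.2 ⟨?_, ?_⟩
  · have h := (K).T_beta m ((K).T ((K).T x))
    rw [(K).T3, B.TT, (K).form.add_right, h1, h2, add_zero] at h
    exact h
  · rw [(K).T_beta, h1]

theorem Bad.line_le_H : (K).line x ≤ B.H :=
  (K).line_le (B.mem_H.2 ⟨(K).form.self x, B.xTx⟩)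
    (B.T_mem_H (B.mem_H.2 ⟨(K).form.self x, B.xTx⟩))

theorem Bad.card_line' : Nat.card ((K).line x) = 4 := (K).card_line (B.fixed_point_free x) B.ne

theorem Bad.card_H : Nat.card B.H = 64 := by
  haveI := (K).finite
  have h := (K).form.card_perp B.nondeg_top (X := (K).line x) le_top
  rw [top_inf_eq, AddSubgroup.card_top, (K).card, B.card_line'] at h
  show Nat.card ((K).form.perp ((K).line x : Set V)) = 64
  omega

theorem Bad.T_mem_X {u : V} (hu : u ∈ (K).line x) : (K).T u ∈ (K).line x :=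
  (K).T_mem_line (B.fixed_point_free x) hu

/-- A vector and its image both fixed by an odd element modulo the line lie on the line. -/
theorem Bad.real {m : V} {w : ↥Hs} (hwo : Perm.sign w.1.1 = -1) (h1 : (K).N w m ∈ (K).line x)
    (h2 : (K).N w ((K).T m) ∈ (K).line x) : m ∈ (K).line x := by
  have e : (K).N w ((K).T m) = m + (K).T ((K).T ((K).N w m)) := by
    rw [(K).N_apply, (K).T_odd w hwo, (K).N_apply, (K).T_add, (K).T_add, B.TT m,
      show m + ((K).T ((K).T (w • m)) + (m + (K).T m)) =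
        (K).T ((K).T (w • m)) + (K).T m + (m + m) by abel, (K).form.two, add_zero]
  rw [e] at h2
  exact (AddSubgroup.add_mem_cancel_right _ (B.T_mem_X (B.T_mem_X h1))).1 h2

theorem Bad.x_line {a : V} (ha : a = 0 ∨ a = x) : a ∈ (K).line x := by
  rcases ha with e | e <;> rw [e]
  exacts [zero_mem _, (K).self_mem_line _]

theorem Bad.N_H {g : ↥Hs} (hg : g ∈ B.W0) {m : V} (hm : m ∈ B.H) : (K).N g m ∈ (K).line x := by
  obtain ⟨w, hw, hwo⟩ := B.odd
  have h1 : (K).N g m ∈ S := B.into m (B.mem_H.1 hm).1 g hg.1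
  have h2 : (K).T ((K).N g m) ∈ S := by
    rw [← (K).N_T hg.2]
    exact B.into _ (B.mem_H.1 (B.T_mem_H hm)).1 g hg.1
  exact B.real hwo (B.x_line (B.small _ h1 w hw)) (B.x_line (B.small _ h2 w hw))

/-- An element of `W0` killing the orthogonal of the line has rank one. -/
theorem Bad.R1_of_kill_H {g : ↥Hs} (hg : g ∈ B.W0) (h : ∀ m ∈ B.H, (K).N g m = 0) : (K).R1 g :=
  B.R1_of_kills hg (B.fixed_point_free x) B.ne fun m _ h1 h2 => h m (B.mem_H.2 ⟨h1, h2⟩)

theorem Bad.line_le_S : (K).line x ≤ S := by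
  obtain ⟨g, hg, hg1⟩ := B.exists_WL
  have hg0 := B.ι_mem_W0 hg
  obtain ⟨m, hm, hne⟩ : ∃ m ∈ B.H, (K).N ((K).ι g) m ≠ 0 := by
    by_contra hno
    push Not at hno
    exact B.not_R1 (B.invol_WL hg) hg1 (B.R1_of_kill_H hg0 hno)
  have hu : (K).N ((K).ι g) m ∈ S := B.into m (B.mem_H.1 hm).1 _ hg
  have hTu : (K).T ((K).N ((K).ι g) m) ∈ S := by
    rw [← (K).N_T rfl]
    exact B.into _ (B.mem_H.1 (B.T_mem_H hm)).1 _ hg
  refine (K).line_le B.mem ?_
  rcases B.N_H hg0 hm with e | e | e | e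
  · exact absurd e hne
  · rw [e] at hTu; exact hTu
  · rw [e] at hu; exact hu
  · rw [e] at hu
    have := add_mem B.mem hu
    rwa [← add_assoc, (K).form.two, zero_add] at this

theorem Bad.S_le_H : S ≤ B.H := fun e he => B.mem_H.2
  ⟨B.iso e he x B.mem, B.iso e he _ (B.line_le_S ((K).T_mem_line' x))⟩

/-- The sum map of the real form and its image under `τ`. -/
def Bad.pairMap (X : AddSubgroup V) : ↥X × ↥X →+ V where
  toFun p := (p.1 : V) + (K).T p.2
  map_zero' := by simp [(K).T_zero]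
  map_add' a b := by
    show ((a.1 : V) + b.1) + (K).T ((a.2 : V) + b.2) = _
    rw [(K).T_add]
    abel

theorem Bad.card_S : Nat.card S = 16 ∧ (∀ m ∈ B.H, ∃ e ∈ S, ∃ e' ∈ S, m = e + (K).T e') := by
  haveI := (K).finite
  obtain ⟨w, hw, hwo⟩ := B.odd
  let K' : AddSubgroup V := B.H ⊓ ((K).line x).comap ((K).N w)
  have hSK : S ≤ K' := fun e he => ⟨B.S_le_H he, B.x_line (B.small e he w hw)⟩
  have hker : ∀ p : ↥K' × ↥K', p ∈ (B.pairMap K').ker → (p.2 : V) ∈ (K).line x := by
    intro p hp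
    have e : (p.1 : V) = (K).T p.2 := (K).form.eq_of_add hp
    exact B.real hwo p.2.2.2 (e ▸ p.1.2.2)
  have hrange : (B.pairMap K').range ≤ B.H := by
    rintro _ ⟨p, rfl⟩
    exact add_mem p.1.2.1 (B.T_mem_H p.2.2.1)
  have hk4 : Nat.card (B.pairMap K').ker ≤ 4 := by
    rw [← B.card_line']
    refine Nat.card_le_card_of_injective (fun p => ⟨p.1.2, hker p.1 p.2⟩) fun a b e => ?_
    have e' : (a.1.2 : V) = b.1.2 := by simpa using e
    have ea : (a.1.1 : V) = (K).T a.1.2 := (K).form.eq_of_add a.2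
    have eb : (b.1.1 : V) = (K).T b.1.2 := (K).form.eq_of_add b.2
    exact Subtype.ext (Prod.ext (Subtype.ext (by rw [ea, eb, e'])) (Subtype.ext e'))
  have hmul : ∀ X : AddSubgroup V, Nat.card X * Nat.card X =
      Nat.card (B.pairMap X).range * Nat.card (B.pairMap X).ker := by
    intro X
    rw [← Nat.card_prod, AddSubgroup.card_eq_card_quotient_mul_card_addSubgroup (B.pairMap X).ker,
      Nat.card_congr (QuotientAddGroup.quotientKerEquivRange (B.pairMap X)).toEquiv]
  have hKle : Nat.card K' ≤ 16 := by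
    have h1 := hmul K'
    have h2 : Nat.card (B.pairMap K').range ≤ 64 := by
      rw [← B.card_H]
      exact Nat.card_le_card_of_injective (AddSubgroup.inclusion hrange)
        (AddSubgroup.inclusion_injective _)
    nlinarith
  -- the image in `S` modulo the line
  let L : AddSubgroup S := ((K).line x).addSubgroupOf S
  let ψ : ↥B.H →+ ↥S ⧸ L := (QuotientAddGroup.mk' L).comp
    { toFun := fun m => ⟨(K).N w m, B.into m (B.mem_H.1 m.2).1 w hw⟩
      map_zero' := Subtype.ext (by simp)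
      map_add' := fun a b => Subtype.ext (by simp) }
  have hψ : Nat.card ψ.ker ≤ Nat.card K' := by
    refine Nat.card_le_card_of_injective (fun m => ⟨m.1.1, m.1.2, ?_⟩) fun a b e =>
      Subtype.ext (Subtype.ext (by simpa using congrArg Subtype.val e))
    have h := m.2
    rw [AddMonoidHom.mem_ker, AddMonoidHom.comp_apply, QuotientAddGroup.mk'_apply,
      QuotientAddGroup.eq_zero_iff] at h
    exact h
  have hL : Nat.card L = 4 := by
    rw [← B.card_line']
    exact Nat.card_congr (AddSubgroup.addSubgroupOfEquivOfLe B.line_le_S).toEquiv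
  have hq := L.card_eq_card_quotient_mul_card_addSubgroup
  have h64 := AddSubgroup.card_eq_card_quotient_mul_card_addSubgroup ψ.ker
  rw [B.card_H, Nat.card_congr (QuotientAddGroup.quotientKerEquivRange ψ).toEquiv] at h64
  have hr : Nat.card ψ.range ≤ Nat.card (↥S ⧸ L) := AddSubgroup.card_le_card_addGroup _
  have hS16 := B.S_le
  rw [hL] at hq
  have h16 : Nat.card S = 16 := by
    refine le_antisymm hS16 ?_
    have : 64 ≤ Nat.card (↥S ⧸ L) * 16 := h64.le.trans (Nat.mul_le_mul hr (hψ.trans hKle))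
    omega
  refine ⟨h16, ?_⟩
  have hkS : Nat.card (B.pairMap S).ker ≤ 4 := by
    rw [← B.card_line']
    have hk : ∀ p : ↥S × ↥S, p ∈ (B.pairMap S).ker → (p.2 : V) ∈ (K).line x := fun p hp =>
      hker (⟨p.1, hSK p.1.2⟩, ⟨p.2, hSK p.2.2⟩) hp
    refine Nat.card_le_card_of_injective (fun p => ⟨p.1.2, hk p.1 p.2⟩) fun a b e => ?_
    have e' : (a.1.2 : V) = b.1.2 := by simpa using e
    have ea : (a.1.1 : V) = (K).T a.1.2 := (K).form.eq_of_add a.2
    have eb : (b.1.1 : V) = (K).T b.1.2 := (K).form.eq_of_add b.2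
    exact Subtype.ext (Prod.ext (Subtype.ext (by rw [ea, eb, e'])) (Subtype.ext e'))
  have h1 := hmul S
  have hle : (B.pairMap S).range ≤ B.H := by
    rintro _ ⟨p, rfl⟩
    exact add_mem (B.S_le_H p.1.2) (B.T_mem_H (B.S_le_H p.2.2))
  have heq : (B.pairMap S).range = B.H := AddSubgroup.eq_of_le_of_card_ge hle (by
    rw [B.card_H]
    rw [h16] at h1
    nlinarith)
  intro m hm
  obtain ⟨p, hp⟩ := heq ▸ hm
  exact ⟨p.1, p.1.2, p.2, p.2.2, hp.symm⟩

theorem Bad.fix_line {g : ↥Hs} (hg : g ∈ B.W0) {u : V} (hu : u ∈ (K).line x) : (K).N g u = 0 := by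
  have h1 : (K).N g x = 0 := (K).N_eq_zero.2 (B.fix g hg.1)
  have h2 : (K).N g ((K).T x) = 0 := by rw [(K).N_T hg.2, h1, (K).T_zero]
  rcases hu with rfl | rfl | rfl | rfl
  · exact map_zero _
  · exact h1
  · exact h2
  · rw [map_add, h1, h2, add_zero]

/-- The fixed space of an involution of the alternating group is its image, of order 16. -/
theorem Bad.ker_invol {g : Alt6} (hg : g * g = 1) (hg1 : g ≠ 1) :
    Nat.card ((K).N ((K).ι g)).ker = 16 ∧
      ∀ u ∈ ((K).N ((K).ι g)).ker, ∀ v ∈ ((K).N ((K).ι g)).ker, β u v = 0 := by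
  haveI := (K).finite
  have hgg : (K).ι g * (K).ι g = 1 := by rw [← map_mul, hg, map_one]
  set U := ((K).N ((K).ι g)).range
  set Z := ((K).N ((K).ι g)).ker
  have hUZ : U ≤ Z := by
    rintro _ ⟨v, rfl⟩
    exact (K).N_sq hgg v
  have hiso : ∀ u ∈ U, ∀ v ∈ Z, β u v = 0 := by
    rintro _ ⟨a, rfl⟩ v hv
    rw [(K).N_adjoint hgg, show (K).N ((K).ι g) v = 0 from hv, (K).form.zero_right]
  have hmul : Nat.card U * Nat.card Z = 256 := by
    rw [← (K).card, AddSubgroup.card_eq_card_quotient_mul_card_addSubgroup Z,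
      Nat.card_congr (QuotientAddGroup.quotientKerEquivRange _).toEquiv]
  have hT : ∀ v ∈ U, (K).T v ∈ U := by
    rintro _ ⟨a, rfl⟩
    exact ⟨_, (K).N_T rfl a⟩
  have hUd : U ≤ (K).movD := fun v _ => B.fixed_point_free v
  have hle : Nat.card U * Nat.card U ≤ 256 := by
    have := (K).form.card_sq_le B.nondeg_top (X := U) le_top fun u hu v hv => hiso u hu v (hUZ hv)
    rwa [AddSubgroup.card_top, (K).card] at this
  have h16 : Nat.card U = 16 := by
    rcases (K).pow_four hUd hT with e | e | e | e | e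
    · refine absurd ?_ (B.not_R1 hg hg1)
      haveI : Subsingleton U := (Nat.card_eq_one_iff_unique.1 e).1
      exact ⟨0, zero_mem _, fun v _ =>
        Or.inl (congrArg Subtype.val (Subsingleton.elim (⟨_, v, rfl⟩ : U) 0))⟩
    · refine absurd ?_ (B.not_R1 hg hg1)
      obtain ⟨p, hp, hp0⟩ : ∃ p ∈ U, p ≠ 0 := by
        by_contra hno
        push Not at hno
        haveI : Subsingleton U := ⟨fun a b => Subtype.ext ((hno a a.2).trans (hno b b.2).symm)⟩
        rw [Nat.card_of_subsingleton (0 : U)] at e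
        omega
      refine ⟨p, hUd hp, fun v _ => ?_⟩
      have he : (K).line p = U := AddSubgroup.eq_of_le_of_card_ge ((K).line_le hp (hT p hp))
        (by rw [(K).card_line (hUd hp) hp0, e])
      rw [he]
      exact ⟨v, rfl⟩
    · exact e
    all_goals rw [e] at hle; omega
  rw [h16] at hmul
  have hZ16 : Nat.card Z = 16 := by omega
  have he : U = Z := AddSubgroup.eq_of_le_of_card_ge hUZ (by rw [h16, hZ16])
  exact ⟨hZ16, fun u hu v hv => hiso u (he ▸ hu) v hv⟩

theorem Bad.ker_le_H {g : Alt6} (hg : g ∈ B.WL) (hg1 : g ≠ 1) :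
    ((K).N ((K).ι g)).ker ≤ B.H := fun v hv => by
  obtain ⟨-, h⟩ := B.ker_invol (B.invol_WL hg) hg1
  exact B.mem_H.2 ⟨h v hv x (B.fix_line (B.ι_mem_W0 hg) ((K).self_mem_line x)),
    h v hv _ (B.fix_line (B.ι_mem_W0 hg) ((K).T_mem_line' x))⟩

end CfsgLib.TriSix
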