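import Cfsg.Agent.Spor3T.Extraspecial
import Cfsg.Agent.TriSix.Space

/-!
The quadratic space of an extraspecial 2-subgroup modulo its centre.
-/

set_option autoImplicit false
set_option linter.unusedSectionVars false

namespace CfsgLib.TriSix

open Subgroup CfsgLib.Extra2

variable {G : Type*} [Group G] {Q : Subgroup G} {z : G}

/-- The quotient of a subgroup by its centre, written additively. -/
abbrev Vq (Q : Subgroup G) : Type _ := Additive (↥Q ⧸ center ↥Q)

/-- The class of an element. -/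
def cls (a : ↥Q) : Vq Q := Additive.ofMul (QuotientGroup.mk a)

theorem cls_surj (v : Vq Q) : ∃ a : ↥Q, cls a = v := QuotientGroup.mk_surjective (Additive.toMul v)

theorem mem_center_iff' (hg : Gen Q z) {a : ↥Q} :
    a ∈ center ↥Q ↔ (a : G) = 1 ∨ (a : G) = z := by
  rw [← mem_zpowers_iff hg.sq, ← hg.map_center]
  exact ⟨fun h => mem_map_of_mem _ h, fun ⟨b, hb, e⟩ => Subtype.ext e ▸ hb⟩

theorem cls_eq_cls (hg : Gen Q z) {a b : ↥Q} :
    cls a = cls b ↔ (b : G) = a ∨ (b : G) = z * a := by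
  have hc : cls a = cls b ↔ a⁻¹ * b ∈ center ↥Q := QuotientGroup.eq
  rw [hc, mem_center_iff' hg]
  constructor
  · rintro (e | e)
    · exact Or.inl (inv_mul_eq_one.1 e).symm
    · exact Or.inr ((inv_mul_eq_iff_eq_mul.1 e).trans (hg.comm_z a a.2).eq)
  · rintro (e | e) <;> simp only [Subgroup.coe_mul, InvMemClass.coe_inv, e]
    · exact Or.inl (inv_mul_cancel _)
    · exact Or.inr (by rw [← (hg.comm_z a a.2).eq, inv_mul_cancel_left])

/-- The quotient is commutative. -/
@[reducible] def vqComm (hg : Gen Q z) : AddCommGroup (Vq Q) :=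
  { (inferInstance : AddGroup (Vq Q)) with
    add_comm := fun u v => by
      obtain ⟨a, rfl⟩ := cls_surj u
      obtain ⟨b, rfl⟩ := cls_surj v
      show cls (a * b) = cls (b * a)
      rw [cls_eq_cls hg]
      rcases hg.comm b b.2 a a.2 with e | e
      · exact Or.inl (mul_inv_eq_iff_eq_mul.1 (mul_inv_eq_one.1 e))
      · refine Or.inr ?_
        show (b : G) * a = z * ((a : G) * b)
        rw [← e]; group }

open Classical in
/-- The square form. -/
noncomputable def qf (Q : Subgroup G) (v : Vq Q) : ZMod 2 :=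
  if ((Additive.toMul v).out : G) * ((Additive.toMul v).out : G) = 1 then 0 else 1

open Classical in
/-- The commutator form. -/
noncomputable def bf (Q : Subgroup G) (u v : Vq Q) : ZMod 2 :=
  if ((Additive.toMul u).out : G) * ((Additive.toMul v).out : G) =
    ((Additive.toMul v).out : G) * ((Additive.toMul u).out : G) then 0 else 1

/-- The embedding of the prime field in the centre. -/
def toZ (z : G) (k : ZMod 2) : G := if k = 0 then 1 else z

theorem zmod_cases : ∀ k : ZMod 2, k = 0 ∨ k = 1 := by decide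

theorem toZ_add (hg : Gen Q z) : ∀ k l : ZMod 2, toZ z (k + l) = toZ z k * toZ z l := by
  intro k l
  rcases zmod_cases k with rfl | rfl <;> rcases zmod_cases l with rfl | rfl <;>
    simp [toZ, hg.sq, show (1 : ZMod 2) + 1 = 0 by decide]

theorem toZ_inj (hg : Gen Q z) {k l : ZMod 2} (h : toZ z k = toZ z l) : k = l := by
  rcases zmod_cases k with rfl | rfl <;> rcases zmod_cases l with rfl | rfl <;>
    first
      | rfl
      | (simp [toZ, hg.ne_one, hg.ne_one.symm] at h)

theorem out_eq (hg : Gen Q z) (a : ↥Q) :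
    ((Additive.toMul (cls a)).out : G) = a ∨ ((Additive.toMul (cls a)).out : G) = z * a :=
  (cls_eq_cls hg).1 (QuotientGroup.out_eq' (Additive.toMul (cls a))).symm

theorem qf_cls (hg : Gen Q z) (a : ↥Q) : toZ z (qf Q (cls a)) = (a : G) * a := by
  have h1 : ((Additive.toMul (cls a)).out : G) * ((Additive.toMul (cls a)).out : G) = a * a := by
    rcases out_eq hg a with e | e <;> rw [e]
    calc z * (a : G) * (z * a) = z * ((a : G) * z) * a := by group
      _ = z * (z * a) * a := by rw [(hg.comm_z a a.2).eq]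
      _ = (z * z) * (a * a) := by group
      _ = _ := by rw [hg.sq, one_mul]
  unfold qf
  rw [h1]
  split_ifs with h
  · simp [toZ, h]
  · simp [toZ, (hg.square a a.2).resolve_left h]

theorem bf_cls (hg : Gen Q z) (a b : ↥Q) :
    toZ z (bf Q (cls a) (cls b)) = (a : G) * b * (a : G)⁻¹ * (b : G)⁻¹ := by
  set u := (Additive.toMul (cls a)).out
  set v := (Additive.toMul (cls b)).out
  have hzc : ∀ y : G, y ∈ Q → z * y = y * z := fun y hy => (hg.comm_z y hy).eq.symm
  have h1 : (u : G) * v * (u : G)⁻¹ * (v : G)⁻¹ = (a : G) * b * (a : G)⁻¹ * (b : G)⁻¹ := by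
    rcases out_eq hg a with e | e <;> rcases out_eq hg b with e' | e' <;> rw [e, e']
    · calc (a : G) * (z * b) * (a : G)⁻¹ * (z * b)⁻¹
          = ((a : G) * z) * b * (a : G)⁻¹ * (b : G)⁻¹ * z⁻¹ := by group
        _ = z * ((a : G) * b * (a : G)⁻¹ * (b : G)⁻¹) * z⁻¹ := by rw [← hzc a a.2]; group
        _ = _ := by
          rw [hzc _ (mul_mem (mul_mem (mul_mem a.2 b.2) (inv_mem a.2)) (inv_mem b.2))]
          group
    · calc z * (a : G) * b * (z * a)⁻¹ * (b : G)⁻¹
          = z * ((a : G) * b * (a : G)⁻¹) * z⁻¹ * (b : G)⁻¹ := by group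
        _ = _ := by
          rw [hzc _ (mul_mem (mul_mem a.2 b.2) (inv_mem a.2))]
          group
    · calc z * (a : G) * (z * b) * (z * a)⁻¹ * (z * b)⁻¹
          = z * (((a : G) * z) * b * (a : G)⁻¹) * z⁻¹ * (b : G)⁻¹ * z⁻¹ := by group
        _ = z * ((z * a) * b * (a : G)⁻¹) * z⁻¹ * (b : G)⁻¹ * z⁻¹ := by rw [← hzc a a.2]
        _ = z * z * ((a : G) * b * (a : G)⁻¹ * z⁻¹) * (b : G)⁻¹ * z⁻¹ := by group
        _ = (a : G) * b * (a : G)⁻¹ * (z⁻¹ * ((b : G)⁻¹ * z⁻¹)) := by rw [hg.sq]; group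
        _ = (a : G) * b * (a : G)⁻¹ * (z⁻¹ * (z⁻¹ * (b : G)⁻¹)) := by
          rw [(Commute.inv_inv (hg.comm_z b b.2)).eq]
        _ = (a : G) * b * (a : G)⁻¹ * ((z * z)⁻¹ * (b : G)⁻¹) := by group
        _ = _ := by rw [hg.sq]; group
  unfold bf
  rw [← h1]
  split_ifs with h
  · simp [toZ, u, v, h]
  · rcases hg.comm u u.2 v v.2 with e | e
    · exact absurd (mul_inv_eq_iff_eq_mul.1 (mul_inv_eq_one.1 e)) h
    · simp [toZ, e]

theorem form_vq (hg : Gen Q z) : letI := vqComm hg; Form (qf Q) (bf Q) := by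
  letI := vqComm hg
  have hadd : ∀ a b : ↥Q, cls a + cls b = cls (a * b) := fun a b => rfl
  have hzero : (0 : Vq Q) = cls 1 := rfl
  refine ⟨fun v => ?_, fun u v => ?_, fun u u' v => ?_, fun u hu => ?_⟩
  · obtain ⟨a, rfl⟩ := cls_surj v
    rw [hadd, hzero, cls_eq_cls hg]
    rcases hg.square a a.2 with e | e
    · exact Or.inl e.symm
    · exact Or.inr (by simp only [Subgroup.coe_mul, e, hg.sq, OneMemClass.coe_one])
  · obtain ⟨a, rfl⟩ := cls_surj u
    obtain ⟨b, rfl⟩ := cls_surj v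
    refine toZ_inj hg ?_
    rw [hadd, toZ_add hg, toZ_add hg, qf_cls hg, qf_cls hg, qf_cls hg, bf_cls hg, Subgroup.coe_mul]
    have hz : ∀ y ∈ Q, ((a : G) * b * (a : G)⁻¹ * (b : G)⁻¹) * y = y * ((a : G) * b * (a : G)⁻¹ * (b : G)⁻¹) := by
      intro y hy
      rcases hg.comm a a.2 b b.2 with e | e <;> rw [e]
      · simp
      · exact (hg.comm_z y hy).eq.symm
    set c := (a : G) * b * (a : G)⁻¹ * (b : G)⁻¹
    have hinv : c⁻¹ = c := inv_eq_of_mul_eq_one_right (by
      rcases hg.comm a a.2 b b.2 with e | e <;>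
        simp only [c, e, one_mul, hg.sq])
    calc (a : G) * b * ((a : G) * b) = (a : G) * (c⁻¹ * ((a : G) * b)) * b := by simp only [c]; group
      _ = (a : G) * (c * ((a : G) * b)) * b := by rw [hinv]
      _ = (a : G) * (((a : G) * b) * c) * b := by rw [hz _ (mul_mem a.2 b.2)]
      _ = (a : G) * a * (b * (c * b)) := by group
      _ = (a : G) * a * (b * (b * c)) := by rw [hz _ b.2]
      _ = _ := by group
  · obtain ⟨a, rfl⟩ := cls_surj u
    obtain ⟨b, rfl⟩ := cls_surj u'
    obtain ⟨c, rfl⟩ := cls_surj v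
    refine toZ_inj hg ?_
    rw [hadd, toZ_add hg, bf_cls hg, bf_cls hg, bf_cls hg, Subgroup.coe_mul]
    exact congrArg Subtype.val ((commHom hg c).map_mul a b)
  · obtain ⟨a, rfl⟩ := cls_surj u
    rw [hzero, cls_eq_cls hg]
    refine (hg.center_iff a a.2 fun y hy => ?_).imp (fun e => by simp [e]) fun e => ?_
    · have h1 := bf_cls hg a ⟨y, hy⟩
      rw [hu, show toZ z 0 = 1 from rfl, eq_comm] at h1
      exact mul_inv_eq_iff_eq_mul.1 (mul_inv_eq_one.1 h1)
    · simp [e, hg.sq]

/-- The classes of the elements of a subgroup containing the centre. -/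
def clsSet (Q X : Subgroup G) : Set (Vq Q) := {v | ∃ a : ↥Q, cls a = v ∧ (a : G) ∈ X}

theorem mem_clsSet (hg : Gen Q z) {X : Subgroup G} (hzX : z ∈ X) {a : ↥Q} :
    cls a ∈ clsSet Q X ↔ (a : G) ∈ X := by
  refine ⟨?_, fun h => ⟨a, rfl, h⟩⟩
  rintro ⟨b, hb, hbX⟩
  rcases (cls_eq_cls hg).1 hb with e | e <;> rw [e]
  exacts [hbX, mul_mem hzX hbX]

theorem card_clsSet [Finite G] (hg : Gen Q z) {X : Subgroup G} (hXQ : X ≤ Q) (hzX : z ∈ X) :
    Nat.card X = 2 * Nat.card (clsSet Q X) := by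
  let f : X →* ↥Q ⧸ center ↥Q := (QuotientGroup.mk' _).comp (inclusion hXQ)
  have hk : Nat.card f.ker = 2 := by
    have he : Nat.card f.ker = Nat.card (zpowers z) := by
      refine Nat.card_congr ⟨fun a => ⟨a.1.1, ?_⟩, fun a => ⟨⟨a.1, ?_⟩, ?_⟩, fun a => rfl, fun a => rfl⟩
      · have h := a.2
        rw [MonoidHom.mem_ker, MonoidHom.comp_apply, QuotientGroup.mk'_apply, QuotientGroup.eq_one_iff,
          mem_center_iff' hg] at h
        exact (mem_zpowers_iff hg.sq).2 h
      · rcases (mem_zpowers_iff hg.sq).1 a.2 with e | e <;> rw [e]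
        exacts [one_mem _, hzX]
      · rw [MonoidHom.mem_ker, MonoidHom.comp_apply, QuotientGroup.mk'_apply, QuotientGroup.eq_one_iff,
          mem_center_iff' hg]
        exact (mem_zpowers_iff hg.sq).1 a.2
    rw [he, Nat.card_zpowers, orderOf_gen hg]
  have hr : Nat.card f.range = Nat.card (clsSet Q X) := by
    refine Nat.card_congr (Equiv.subtypeEquiv Additive.ofMul fun v => ?_)
    constructor
    · rintro ⟨a, rfl⟩
      exact ⟨inclusion hXQ a, rfl, a.2⟩
    · rintro ⟨a, ha, haX⟩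
      exact ⟨⟨a, haX⟩, ha⟩
  rw [card_eq_card_quotient_mul_card_subgroup f.ker, hk,
    Nat.card_congr (QuotientGroup.quotientKerEquivRange f).toEquiv, hr, mul_comm]

end CfsgLib.TriSix
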