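import Cfsg.Agent.TriSix.False
import Cfsg.Agent.TriSix.Quot
import Cfsg.Agent.LargeExtra.FusedTransfer
import Cfsg.Agent.LargeExtra.PairRadical

/-!
No group with trivial 2-quotient has an involution centralizer `2^{1+8}.X` with
`3 × A₆ ≤ X ≤ S₃ × S₆` and `X` not inside `3 × S₆`.
-/

set_option autoImplicit false
set_option linter.unusedSectionVars false
set_option linter.style.haveILetI false

namespace CfsgLib.TriSix

open Subgroup Equiv CfsgLib.Extra2 CfsgLib.LargeExtra

set_option maxRecDepth 4000 in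
theorem fst_trivial : ∀ a : Perm (Fin 3), a * a = 1 →
    c3 * a * c3⁻¹ * a⁻¹ * (c3 * a * c3⁻¹ * a⁻¹) = 1 → a = 1 := by decide +kernel

/-- Four three-cycles. -/
def cyc : Fin 4 → Perm (Fin 6) :=
  ![swap 0 1 * swap 1 2, swap 0 1 * swap 1 3, swap 0 2 * swap 2 4, swap 0 3 * swap 3 4]

theorem cyc_even : ∀ i : Fin 4, Perm.sign (cyc i) = 1 := by decide +kernel

theorem snd_trivial : ∀ b : Perm (Fin 6), b * b = 1 →
    (∀ i : Fin 4, cyc i * b * (cyc i)⁻¹ * b⁻¹ * (cyc i * b * (cyc i)⁻¹ * b⁻¹) = 1) → b = 1 := by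
  decide +kernel

variable {G : Type*} [Group G] [Finite G]

/-- The main theorem. -/
theorem false_of {Q : Subgroup G} {z : G} (h : Pre Q z) (hext : Cfsg.IsExtraspecial 2 ↥Q)
    (hres : Cfsg.pResidual 2 G = ⊤) (hcard : Nat.card ↥Q = 2 ^ 9)
    (φ : ↥(centralizer ({z} : Set G)) →* Amb)
    (hker : φ.ker = Q.subgroupOf (centralizer ({z} : Set G)))
    (htop : ∀ p : Amb, Perm.sign p.1 = 1 → Perm.sign p.2 = 1 → p ∈ φ.range)
    (hodd : ∃ c, Perm.sign (φ c).1 = -1) : False := by
  classical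
  have hEp : IsPGroup 2 Q := hext.1.1
  let θ : ↥(centralizer ({z} : Set G)) →* ℤˣ := (Perm.sign.comp (MonoidHom.fst (Perm (Fin 3)) (Perm (Fin 6)))).comp φ
  have hphiQ : ∀ {y : G} (hy : y ∈ (centralizer ({z} : Set G))), y ∈ Q ↔ φ ⟨y, hy⟩ = 1 := fun {y} hy => by
    rw [← MonoidHom.mem_ker, hker, mem_subgroupOf]
  -- a fused element on which the sign character is nontrivial
  obtain ⟨g, hgQ, hgz, b₀, hb₀, hb₀C, hθ⟩ : ∃ g : G, g * z * g⁻¹ ∈ Q ∧ g * z * g⁻¹ ≠ z ∧
      ∃ b ∈ Q.map (MulAut.conj g).toMonoidHom, ∃ hb : b ∈ (centralizer ({z} : Set G)), θ ⟨b, hb⟩ ≠ 1 := by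
    by_contra hno
    push Not at hno
    obtain ⟨c, hc⟩ := hodd
    have h1 := CfsgLib.FusedTransfer.char_eq_one h θ hres (fun b => Int.units_mul_self b) hEp
      (n := 4) (by norm_num) (by rw [hcard]) hno c
    rw [show θ c = Perm.sign (φ c).1 from rfl, hc] at h1
    exact absurd h1 (by decide)
  have hgC : g ∉ (centralizer ({z} : Set G)) := fun e => hgz (by
    rw [mem_centralizer_singleton_iff.1 e, mul_inv_cancel_right])
  have P := pair_of h hgQ hgC
  set x := g * z * g⁻¹ with hxdef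
  set Q' := Q.map (MulAut.conj g).toMonoidHom with hQ'
  set E := Q ⊓ Q' with hE
  have hzE : z ∈ E := ⟨h.gen.mem, P.zQ⟩
  have hxE : x ∈ E := ⟨P.xQ, P.pre'.gen.mem⟩
  have hQC : Q ≤ (centralizer ({z} : Set G)) := CfsgLib.OrbitTransfer.le_C h
  have hhg := h.gen
  set B := Q' ⊓ (centralizer ({z} : Set G)) with hBdef
  have hEB : E ≤ B := fun e he => ⟨he.2, hQC he.1⟩
  have hBx : ∀ b ∈ B, b * x = x * b := fun b hb => (P.pre'.gen.comm_z b hb.1).eq
  have hBz : ∀ b ∈ B, b * z = z * b := fun b hb => mem_centralizer_singleton_iff.1 hb.2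
  -- the order of `B`
  set V₄ := closure ({z, x} : Set G) with hV₄
  have hB8 : Nat.card B = 2 ^ 8 := by
    have hV4 : Nat.card V₄ = 4 := by
      have hset : (V₄ : Set G) = ↑({1, z, x, z * x} : Finset G) := by
        ext v
        simpa using mem_V P v
      rw [← SetLike.coe_sort_coe, Nat.card_coe_set_eq, hset, Set.ncard_coe_finset]
      have h1 : z ≠ 1 := hhg.ne_one
      have h2 : x ≠ 1 := P.pre'.gen.ne_one
      have h3 : z * x ≠ 1 := fun e => P.ne (by
        show x = z
        calc x = z * (z * x) := by rw [← mul_assoc, hhg.sq, one_mul]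
          _ = z := by rw [e, mul_one])
      have h4 : z * x ≠ z := fun e => h2 (mul_eq_left.1 e)
      have h5 : z * x ≠ x := fun e => h1 (mul_eq_right.1 e)
      simp [h1.symm, h2, h2.symm, h3.symm, h4.symm, h5.symm, show z ≠ x from P.ne.symm]
    have hVQ : V₄ ≤ Q' := by
      rw [hV₄, closure_le]
      rintro v (rfl | rfl)
      exacts [P.zQ, P.pre'.gen.mem]
    have hxV : x ∈ V₄ := subset_closure (Or.inr rfl)
    have hBeq : Q' ⊓ centralizer (V₄ : Set G) = B := by
      refine le_antisymm (fun b hb => ⟨hb.1, mem_centralizer_singleton_iff.2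
        (mem_centralizer_iff.1 hb.2 z (subset_closure (Or.inl rfl))).symm⟩) fun b hb => ⟨hb.1, ?_⟩
      rw [hV₄, centralizer_closure]
      refine mem_centralizer_iff.2 ?_
      rintro v (rfl | rfl)
      · exact (hBz b hb).symm
      · exact (hBx b hb).symm
    have h1 := card_mul_card_centralizer P.pre'.gen (R := V₄) hxV hVQ
    rw [hBeq, hV4] at h1
    have h2 : Nat.card Q' = 2 ^ 9 := by
      rw [← hcard]
      exact card_map_of_injective (MulAut.conj g).injective
    rw [h2] at h1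
    omega
  -- the space and the action
  letI hcomm : AddCommGroup (Vq Q) := vqComm hhg
  have hF : Form (qf Q) (bf Q) := form_vq hhg
  haveI : Finite (Vq Q) := Finite.of_equiv _ Additive.ofMul
  let cj : ↥(centralizer ({z} : Set G)) → ↥Q → ↥Q := fun c a =>
    ⟨(c : G) * a * (c : G)⁻¹, h.conj_mem (mem_centralizer_singleton_iff.1 c.2) a.2⟩
  have hcjz : ∀ (c : ↥(centralizer ({z} : Set G))) (y : G), (c : G) * (z * y) * (c : G)⁻¹ = z * ((c : G) * y * (c : G)⁻¹) := by
    intro c y
    calc (c : G) * (z * y) * (c : G)⁻¹ = ((c : G) * z) * y * (c : G)⁻¹ := by group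
      _ = _ := by rw [mem_centralizer_singleton_iff.1 c.2]; group
  let act : ↥(centralizer ({z} : Set G)) → Vq Q → Vq Q := fun c v => cls (cj c (Additive.toMul v).out)
  have hact : ∀ c a, act c (cls a) = cls (cj c a) := by
    intro c a
    show cls (cj c _) = cls (cj c a)
    rw [cls_eq_cls hhg]
    show (c : G) * a * (c : G)⁻¹ = (c : G) * _ * (c : G)⁻¹ ∨
      (c : G) * a * (c : G)⁻¹ = z * ((c : G) * _ * (c : G)⁻¹)
    rcases out_eq hhg a with e | e <;> rw [e]
    · exact Or.inl rfl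
    · rw [hcjz, ← mul_assoc z z, hhg.sq, one_mul]
      exact Or.inr rfl
  have hactQ : ∀ c c' : ↥(centralizer ({z} : Set G)), φ c = φ c' → ∀ v, act c v = act c' v := by
    intro c c' e v
    obtain ⟨a, rfl⟩ := cls_surj v
    rw [hact, hact, cls_eq_cls hhg]
    have hq : (c'⁻¹ * c : ↥(centralizer ({z} : Set G))) ∈ φ.ker := by rw [MonoidHom.mem_ker, map_mul, map_inv, e, inv_mul_cancel]
    rw [hker, mem_subgroupOf] at hq
    show (c' : G) * a * (c' : G)⁻¹ = (c : G) * a * (c : G)⁻¹ ∨
      (c' : G) * a * (c' : G)⁻¹ = z * ((c : G) * a * (c : G)⁻¹)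
    set k := ((c'⁻¹ * c : ↥(centralizer ({z} : Set G))) : G) with hk
    have hc : (c : G) = c' * k := by simp [hk]
    rcases conj_eq hhg hq a.2 with e' | e'
    · left
      rw [hc]
      calc (c' : G) * a * (c' : G)⁻¹ = c' * (k * a * k⁻¹) * (c' : G)⁻¹ := by rw [e']
        _ = _ := by group
    · right
      rw [hc, show (c' : G) * k * a * ((c' : G) * k)⁻¹ = c' * (k * a * k⁻¹) * (c' : G)⁻¹ by group, e',
        hcjz, ← mul_assoc z z, hhg.sq, one_mul]
  let rep : ↥φ.range → ↥(centralizer ({z} : Set G)) := fun s => s.2.choose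
  have hrep : ∀ s : ↥φ.range, φ (rep s) = s := fun s => s.2.choose_spec
  have hrep' : ∀ (s : ↥φ.range) (c : ↥(centralizer ({z} : Set G))), φ c = s → ∀ v, act (rep s) v = act c v := fun s c e v =>
    hactQ _ _ ((hrep s).trans e.symm) v
  letI instAct : DistribMulAction ↥φ.range (Vq Q) :=
    { smul := fun s v => act (rep s) v
      one_smul := fun v => by
        show act (rep 1) v = v
        rw [hrep' 1 1 (map_one _)]
        obtain ⟨a, rfl⟩ := cls_surj v
        rw [hact]
        congr 1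
        exact Subtype.ext (by simp [cj])
      mul_smul := fun s t v => by
        show act (rep (s * t)) v = act (rep s) (act (rep t) v)
        rw [hrep' _ (rep s * rep t) (by rw [map_mul, hrep, hrep]; rfl)]
        obtain ⟨a, rfl⟩ := cls_surj v
        rw [hact (rep t) a, hact, hact]
        congr 1
        exact Subtype.ext (by simp [cj, mul_assoc])
      smul_zero := fun s => by
        show act (rep s) (cls 1) = cls 1
        rw [hact]
        congr 1
        exact Subtype.ext (by simp [cj])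
      smul_add := fun s u v => by
        obtain ⟨a, rfl⟩ := cls_surj u
        obtain ⟨b, rfl⟩ := cls_surj v
        show act (rep s) (cls (a * b)) = cls ((cj (rep s) _) * (cj (rep s) _))
        rw [hact]
        have ea := hact (rep s) a
        have eb := hact (rep s) b
        show _ = act (rep s) (cls a) + act (rep s) (cls b)
        rw [ea, eb]
        show cls (cj (rep s) (a * b)) = cls (cj (rep s) a * cj (rep s) b)
        congr 1
        exact Subtype.ext (by simp [cj, mul_assoc]) }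
  have hsm : ∀ (s : ↥φ.range) (c : ↥(centralizer ({z} : Set G))), φ c = s → ∀ a : ↥Q, s • cls a = cls (cj c a) :=
    fun s c e a => (hrep' s c e _).trans (hact c a)
  have hcard8 : Nat.card (Vq Q) = 256 := by
    show Nat.card (↥Q ⧸ center ↥Q) = 256
    have h1 := card_eq_card_quotient_mul_card_subgroup (center ↥Q)
    rw [hcard, hext.2] at h1
    omega
  have hinv : ∀ (s : ↥φ.range) v, qf Q (s • v) = qf Q v := by
    intro s v
    obtain ⟨a, rfl⟩ := cls_surj v
    refine toZ_inj hhg ?_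
    rw [hsm s _ (hrep s), qf_cls hhg, qf_cls hhg]
    show (rep s : G) * a * (rep s : G)⁻¹ * ((rep s : G) * a * (rep s : G)⁻¹) = _
    calc (rep s : G) * a * (rep s : G)⁻¹ * ((rep s : G) * a * (rep s : G)⁻¹)
        = (rep s : G) * ((a : G) * a) * (rep s : G)⁻¹ := by group
      _ = _ := by
        rcases hhg.square a a.2 with e | e <;> rw [e]
        · simp
        · rw [mem_centralizer_singleton_iff.1 (rep s).2, mul_inv_cancel_right]
  have hinvol_of : ∀ k : ↥φ.range, (∀ v : Vq Q, k • v = v) → k.1 * k.1 = 1 := by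
    intro k hk
    set c := rep k
    have hcc : ((c : G) * c) ∈ centralizer (Q : Set G) := by
      rw [mem_centralizer_iff]
      intro a ha
      have h1 := hk (cls ⟨a, ha⟩)
      rw [hsm k c (hrep k), cls_eq_cls hhg] at h1
      have h2 : (c : G) * a * (c : G)⁻¹ = a ∨ (c : G) * a * (c : G)⁻¹ = z * a := by
        rcases h1 with e | e
        · exact Or.inl (show a = (c : G) * a * (c : G)⁻¹ from e).symm
        · refine Or.inr ?_
          have e' : a = z * ((c : G) * a * (c : G)⁻¹) := e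
          conv_rhs => rw [e', ← mul_assoc, hhg.sq, one_mul]
      have h3 : (c : G) * c * a * ((c : G) * c)⁻¹ = a := by
        calc (c : G) * c * a * ((c : G) * c)⁻¹ = c * ((c : G) * a * (c : G)⁻¹) * (c : G)⁻¹ := by group
          _ = a := by
            rcases h2 with e | e
            · rw [e, e]
            · rw [e, hcjz, e, ← mul_assoc, hhg.sq, one_mul]
      exact (mul_inv_eq_iff_eq_mul.1 h3).symm
    have h4 := (hphiQ (c * c : ↥(centralizer ({z} : Set G))).2).1 (by rw [Subgroup.coe_mul]; exact h.self hcc)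
    rw [show (⟨((c * c : ↥(centralizer ({z} : Set G))) : G), (c * c : ↥(centralizer ({z} : Set G))).2⟩ : ↥(centralizer ({z} : Set G))) = c * c from rfl, map_mul, hrep] at h4
    exact h4
  have hfaith : ∀ k : ↥φ.range, (∀ v : Vq Q, k • v = v) → k = 1 := by
    intro k hk
    have hconj : ∀ m : ↥φ.range, ∀ v : Vq Q, (m * k * m⁻¹ * k⁻¹) • v = v := by
      intro m v
      have hk' : ∀ v : Vq Q, k⁻¹ • v = v := fun v => inv_smul_eq_iff.2 (hk v).symm
      rw [mul_smul, mul_smul, mul_smul, hk', hk, smul_inv_smul]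
    have h2 : k.1 * k.1 = 1 := hinvol_of k hk
    have ha : k.1.1 = 1 := by
      have h3 := hinvol_of _ (hconj ⟨(c3, 1), htop _ c3_facts.1 (map_one _)⟩)
      exact fst_trivial _ (congrArg Prod.fst h2) (congrArg Prod.fst h3)
    have hb : k.1.2 = 1 := snd_trivial _ (congrArg Prod.snd h2) fun i =>
      congrArg Prod.snd (hinvol_of _ (hconj ⟨((1 : Perm (Fin 3)), cyc i),
        htop _ (map_one _) (cyc_even i)⟩))
    exact Subtype.ext (Prod.ext ha hb)
  have K : Conf φ.range (Vq Q) (qf Q) (bf Q) := ⟨hF, hinv, hfaith, hcard8, htop⟩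
  -- the data of the fused element
  let Bc : Subgroup ↥(centralizer ({z} : Set G)) := B.subgroupOf (centralizer ({z} : Set G))
  let W : Subgroup ↥φ.range := Bc.map φ.rangeRestrict
  have hWmem : ∀ s, s ∈ W ↔ ∃ b : ↥(centralizer ({z} : Set G)), (b : G) ∈ B ∧ φ b = s := by
    intro s
    constructor
    · rintro ⟨b, hb, rfl⟩
      exact ⟨b, hb, rfl⟩
    · rintro ⟨b, hb, e⟩
      exact ⟨b, hb, Subtype.ext e⟩
  let S : AddSubgroup (Vq Q) :=
    { carrier := clsSet Q E
      zero_mem' := ⟨1, rfl, by simp [one_mem]⟩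
      add_mem' := by
        rintro u v ⟨a, rfl, ha⟩ ⟨b, rfl, hb⟩
        exact ⟨a * b, rfl, by rw [Subgroup.coe_mul]; exact mul_mem ha hb⟩
      neg_mem' := by
        rintro u ⟨a, rfl, ha⟩
        exact ⟨a⁻¹, rfl, by rw [InvMemClass.coe_inv]; exact inv_mem ha⟩ }
  have hSmem : ∀ a : ↥Q, cls a ∈ S ↔ (a : G) ∈ E := fun a => mem_clsSet hhg hzE
  set xb : ↥Q := ⟨x, P.xQ⟩
  have hxx : x * x = 1 := P.pre'.gen.sq
  have hScard : Nat.card E = 2 * Nat.card S := card_clsSet hhg inf_le_left hzE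
  have hWcard : Nat.card W * Nat.card E = Nat.card B := by
    have hBc : Nat.card Bc = Nat.card B :=
      Nat.card_congr (subgroupOfEquivOfLe (inf_le_right : B ≤ (centralizer ({z} : Set G)))).toEquiv
    let f : ↥Bc →* ↥φ.range := φ.rangeRestrict.comp Bc.subtype
    have hfr : f.range = W := by rw [MonoidHom.range_comp, range_subtype]
    have hfk : Nat.card f.ker = Nat.card E := by
      refine Nat.card_congr ⟨fun b => ⟨((b.1.1 : ↥(centralizer ({z} : Set G))) : G), ?_, b.1.2.1⟩,
        fun e => ⟨⟨⟨e.1, hQC e.2.1⟩, hEB e.2⟩, ?_⟩, fun b => rfl, fun e => rfl⟩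
      · exact (hphiQ b.1.1.2).2 (congrArg Subtype.val b.2)
      · exact MonoidHom.mem_ker.2 (Subtype.ext ((hphiQ _).1 e.2.1))
    rw [← hBc, card_eq_card_quotient_mul_card_subgroup f.ker,
      Nat.card_congr (QuotientGroup.quotientKerEquivRange f).toEquiv, hfk, hfr]
  have hmemB : ∀ {b : G}, b ∈ B → ∀ (hb : b ∈ (centralizer ({z} : Set G))), (⟨φ ⟨b, hb⟩, ⟨_, rfl⟩⟩ : ↥φ.range) ∈ W :=
    fun hbB hb => (hWmem _).2 ⟨⟨_, hb⟩, hbB, rfl⟩
  have hcls_add : ∀ a b : ↥Q, cls a + cls b = cls (a * b) := fun a b => rfl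
  have hWcomm : ∀ g₁ ∈ W, ∀ g₂ ∈ W, g₁ * g₂ = g₂ * g₁ := by
    intro g₁ h₁ g₂ h₂
    obtain ⟨b, hb, hbe⟩ := (hWmem g₁).1 h₁
    obtain ⟨b', hb', hbe'⟩ := (hWmem g₂).1 h₂
    refine Subtype.ext ?_
    show g₁.1 * g₂.1 = g₂.1 * g₁.1
    rw [← hbe, ← hbe', ← map_mul, ← map_mul, ← mul_inv_eq_one, ← map_inv, ← map_mul]
    refine (hphiQ (b * b' * (b' * b)⁻¹ : ↥(centralizer ({z} : Set G))).2).1 ?_
    rw [show (((b * b' * (b' * b)⁻¹ : ↥(centralizer ({z} : Set G)))) : G) = (b : G) * b' * (b : G)⁻¹ * (b' : G)⁻¹ by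
      simp [mul_assoc]]
    rcases P.pre'.gen.comm _ hb.1 _ hb'.1 with e | e <;> rw [e]
    exacts [one_mem Q, P.xQ]
  have bad : Bad φ.range (Vq Q) (qf Q) (bf Q) W (cls xb) S := by
    refine ⟨K, fun e => ?_, (hSmem xb).2 hxE, ?_, ?_, ?_, hWcomm, ?_, ?_, ?_, ?_, ?_, ?_⟩
    · rcases (cls_eq_cls hhg (a := xb) (b := 1)).1 e with e | e
      · exact P.pre'.gen.ne_one (show (1 : G) = x from e).symm
      · exact P.ne (by
          have e' : (1 : G) = z * x := e
          show x = z
          calc x = z * (z * x) := by rw [← mul_assoc, hhg.sq, one_mul]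
            _ = z := by rw [← e', mul_one])
    · rintro _ ⟨a, rfl, ha⟩
      refine toZ_inj hhg ?_
      rw [qf_cls hhg, show toZ z 0 = 1 from rfl]
      have := (E_elementary P).2 (a : G) ha
      exact (pow_two (a : G)).symm.trans this
    · intro s hs
      obtain ⟨b, hb, e⟩ := (hWmem s).1 hs
      rw [hsm s b e]
      congr 1
      exact Subtype.ext (mul_inv_eq_iff_eq_mul.2 (hBx _ hb))
    · intro s hs t ht
      obtain ⟨b, hb, e⟩ := (hWmem t).1 ht
      set c := rep s
      rw [hsm s c (hrep s), cls_eq_cls hhg] at hs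
      obtain ⟨c', hc'e, hc'x⟩ : ∃ c' : ↥(centralizer ({z} : Set G)), φ c' = s ∧ (c' : G) * x = x * c' := by
        rcases hs with e' | e'
        · exact ⟨c, hrep s, mul_inv_eq_iff_eq_mul.1 (show x = (c : G) * x * (c : G)⁻¹ from e').symm⟩
        · obtain ⟨a, ha, hax⟩ := exists_a P
          refine ⟨⟨a, hQC ha⟩ * c, by rw [map_mul, (hphiQ (hQC ha)).1 ha, one_mul, hrep],
            mul_inv_eq_iff_eq_mul.1 ?_⟩
          show (a * c) * x * (a * c)⁻¹ = x
          have e2 : (c : G) * x * (c : G)⁻¹ = z * x := by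
            conv_rhs => rw [show x = z * ((c : G) * x * (c : G)⁻¹) from e', ← mul_assoc, hhg.sq, one_mul]
          calc (a * c) * x * (a * c)⁻¹ = a * ((c : G) * x * (c : G)⁻¹) * a⁻¹ := by group
            _ = a * (z * x) * a⁻¹ := by rw [e2]
            _ = z * (a * x * a⁻¹) := hcjz ⟨a, hQC ha⟩ x
            _ = x := by rw [hax, ← mul_assoc, hhg.sq, one_mul]
      have hc'C : (c' : G) ∈ centralizer (↑(closure ({z, g * z * g⁻¹} : Set G)) : Set G) :=
        (mem_C).2 ⟨mem_centralizer_singleton_iff.1 c'.2, hc'x⟩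
      refine (hWmem _).2 ⟨c' * b * c'⁻¹, ?_, by rw [map_mul, map_mul, map_inv, hc'e, e]; rfl⟩
      exact C_normalizes_B P hc'C hb
    · intro s hs
      obtain ⟨b, hb, e⟩ := (hWmem s).1 hs
      refine Subtype.ext ?_
      show s.1 * s.1 = 1
      rw [← e, ← map_mul]
      refine (hphiQ (b * b : ↥(centralizer ({z} : Set G))).2).1 ?_
      rcases P.pre'.gen.square _ hb.1 with e' | e' <;> rw [Subgroup.coe_mul, e']
      exacts [one_mem Q, P.xQ]
    · have h1 := hWcard
      rw [hB8, hScard] at h1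
      have h2 : Nat.card W * Nat.card S * 2 = 256 := by rw [mul_assoc, mul_comm (Nat.card S) 2]; exact h1
      omega
    · intro m hm s hs
      obtain ⟨a, rfl⟩ := cls_surj m
      obtain ⟨b, hb, e⟩ := (hWmem s).1 hs
      have hax : (a : G) * x = x * a := by
        have h1 := bf_cls hhg a xb
        rw [hm, show toZ z 0 = 1 from rfl, eq_comm] at h1
        exact mul_inv_eq_iff_eq_mul.1 (mul_inv_eq_one.1 h1)
      rw [hsm s b e, show cls (cj b a) + cls a = cls (cj b a) + -cls a by rw [hF.neg_eq]]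
      show cls (cj b a * a⁻¹) ∈ S
      rw [hSmem]
      have h2 : (a : G) * b * (a : G)⁻¹ * (b : G)⁻¹ ∈ E :=
        comm_AB P ⟨a.2, mem_centralizer_singleton_iff.2 hax⟩ hb
      rw [show ((cj b a * a⁻¹ : ↥Q) : G) = ((a : G) * b * (a : G)⁻¹ * (b : G)⁻¹)⁻¹ by
        simp [cj, mul_assoc]]
      exact inv_mem h2
    · rintro _ ⟨a, rfl, ha⟩ s hs
      obtain ⟨b, hb, e⟩ := (hWmem s).1 hs
      rw [hsm s b e]
      rcases conj_eq P.pre'.gen hb.1 ha.2 with e' | e'
      · left
        rw [show cj b a = a from Subtype.ext e', hF.two]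
      · right
        rw [show cj b a = xb * a from Subtype.ext e', ← hcls_add, add_assoc, hF.two, add_zero]
    · refine ⟨_, hmemB ⟨hb₀, hb₀C⟩ hb₀C, ?_⟩
      exact (Int.units_eq_one_or _).resolve_left hθ
    · -- the count
      intro s hsS hsne
      set c := rep s with hc
      rw [hsm s c (hrep s), hSmem] at hsS
      set y := (c : G) * x * (c : G)⁻¹
      have hyE : y ∈ E := hsS
      rw [hsm s c (hrep s)] at hsne
      have hyne : y ≠ x ∧ y ≠ z * x := by
        refine ⟨fun e => hsne ((cls_eq_cls hhg).2 (Or.inl (show x = y from e.symm))), fun e =>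
          hsne ((cls_eq_cls hhg).2 (Or.inr (show x = z * y from ?_)))⟩
        rw [e, ← mul_assoc, hhg.sq, one_mul]
      have hcz : (c : G) * z * (c : G)⁻¹ = z :=
        mul_inv_eq_iff_eq_mul.2 (mem_centralizer_singleton_iff.1 c.2)
      have hcinj : ∀ {a a' : G}, (c : G) * a * (c : G)⁻¹ = (c : G) * a' * (c : G)⁻¹ → a = a' :=
        fun e => mul_left_cancel (mul_right_cancel e)
      have hy1 : y ≠ 1 := fun e => P.pre'.gen.ne_one (conj_eq_one_iff.1 e)
      have hyz : y ≠ z := fun e => P.ne (hcinj (e.trans hcz.symm))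
      -- an element of `B` moving `y`
      obtain ⟨bb, hbb, hbby⟩ : ∃ bb ∈ B, bb * y * bb⁻¹ = x * y := by
        by_contra hno
        push Not at hno
        have hxV : x ∈ V₄ := subset_closure (Or.inr rfl)
        have hVQ : V₄ ≤ Q' := by
          rw [hV₄, closure_le]
          rintro v (rfl | rfl)
          exacts [P.zQ, P.pre'.gen.mem]
        have hyV : y ∈ V₄ := by
          rw [← centralizer_centralizer P.pre'.gen hxV hVQ]
          refine ⟨hyE.2, mem_centralizer_iff.2 fun b hb => ?_⟩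
          have hb' : b ∈ B := ⟨hb.1, mem_centralizer_singleton_iff.2
            (mem_centralizer_iff.1 hb.2 z (subset_closure (Or.inl rfl))).symm⟩
          exact mul_inv_eq_iff_eq_mul.1 ((conj_eq P.pre'.gen hb.1 hyE.2).resolve_right (hno b hb'))
        rcases (mem_V P y).1 hyV with e | e | e | e
        exacts [hy1 e, hyz e, hyne.1 e, hyne.2 e]
      obtain ⟨a, ha, hax⟩ := exists_a P
      obtain ⟨b', hb', hb'z⟩ := exists_b P
      set u := a * b' with hu
      have huz : u * z * u⁻¹ = x := by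
        calc u * z * u⁻¹ = a * (b' * z * b'⁻¹) * a⁻¹ := by simp only [hu]; group
          _ = a * (z * x) * a⁻¹ := by rw [hb'z]
          _ = z * (a * x * a⁻¹) := hcjz ⟨a, hQC ha⟩ x
          _ = x := by rw [hax, ← mul_assoc, hhg.sq, one_mul]
      have hv := comm_X_E P (u := u) (mul_mem (mem_sup_left ha) (mem_sup_right hb')) hyE
      set vv := u * y * u⁻¹ * y⁻¹ with hvv
      -- an element with trivial effect on `W`
      obtain ⟨k, hk, hky, hkW, hkE⟩ : ∃ k : ↥(centralizer ({z} : Set G)), True ∧ (k : G) * y * (k : G)⁻¹ = u * y * u⁻¹ ∧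
          (∀ t ∈ W, φ k * t.1 = t.1 * φ k) ∧ ∀ e ∈ E, (k : G)⁻¹ * e * k ∈ E := by
        have hbC : bb ∈ (centralizer ({z} : Set G)) := hbb.2
        have hbE : ∀ e ∈ E, bb⁻¹ * e * bb ∈ E := fun e he => by
          have := C_normalizes_E P ((mem_C).2 ⟨hBz _ (inv_mem hbb), hBx _ (inv_mem hbb)⟩) he
          rwa [inv_inv] at this
        have hqE : ∀ q ∈ Q, ∀ e ∈ E, q⁻¹ * e * q ∈ E := fun q hq e he => by
          rcases conj_eq hhg (inv_mem hq) he.1 with e' | e' <;> rw [inv_inv] at e' <;> rw [e']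
          exacts [he, mul_mem hzE he]
        have hbW : ∀ t ∈ W, φ ⟨bb, hbC⟩ * t.1 = t.1 * φ ⟨bb, hbC⟩ := fun t ht =>
          congrArg Subtype.val (hWcomm _ (hmemB hbb hbC) t ht)
        have hy' : u * y * u⁻¹ = vv * y := by simp only [hvv]; group
        obtain ⟨q₁, hq₁, hq₁y⟩ := exists_conj_mul hhg hyE.1 hy1 hyz
        have hzy : y * z = z * y := (hhg.comm_z y hyE.1).eq
        rcases (mem_V P vv).1 hv with e | e | e | e <;> rw [e] at hy'
        · refine ⟨1, trivial, ?_, fun t _ => by simp, fun e he => by simpa using he⟩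
          rw [hy', one_mul, OneMemClass.coe_one, one_mul, inv_one, mul_one]
        · exact ⟨⟨q₁, hQC hq₁⟩, trivial, by rw [hy', ← hzy]; exact hq₁y,
            fun t _ => by rw [(hphiQ (hQC hq₁)).1 hq₁]; simp, hqE q₁ hq₁⟩
        · exact ⟨⟨bb, hbC⟩, trivial, by rw [hy']; exact hbby, hbW, hbE⟩
        · have hxy1 : x * y ≠ 1 := fun e' => hyne.1 (by
            rw [← inv_eq_of_mul_eq_one_right e', inv_eq_of_mul_eq_one_right hxx])
          have hxyz : x * y ≠ z := fun e' => hyne.2 (by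
            rw [← zx P |>.symm, show y = x * (x * y) by rw [← mul_assoc, hxx, one_mul], e'])
          obtain ⟨q₂, hq₂, hq₂y⟩ := exists_conj_mul hhg (mul_mem P.xQ hyE.1) hxy1 hxyz
          refine ⟨⟨q₂, hQC hq₂⟩ * ⟨bb, hbC⟩, trivial, ?_, fun t ht => ?_, fun e he => ?_⟩
          · show q₂ * bb * y * (q₂ * bb)⁻¹ = _
            calc q₂ * bb * y * (q₂ * bb)⁻¹ = q₂ * (bb * y * bb⁻¹) * q₂⁻¹ := by group
              _ = x * y * z := by rw [hbby, hq₂y]
              _ = _ := by rw [hy', mul_assoc x, hzy, ← mul_assoc, ← zx P]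
          · rw [map_mul, (hphiQ (hQC hq₂)).1 hq₂, one_mul]; exact hbW t ht
          · have := hbE _ (hqE q₂ hq₂ e he)
            simpa [mul_assoc] using this
      set d := (k : G) * c with hd
      have hdC : d ∈ (centralizer ({z} : Set G)) := mul_mem k.2 c.2
      have hdz : d * z * d⁻¹ = z := mul_inv_eq_iff_eq_mul.2 (mem_centralizer_singleton_iff.1 hdC)
      set E' := Q ⊓ Q.map (MulAut.conj ((c : G) * g)).toMonoidHom with hE'
      have hE'eq : E.map (MulAut.conj (c : G)).toMonoidHom = E' := by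
        rw [hE, hE', Subgroup.map_inf _ _ _ (MulAut.conj (c : G)).injective, hQ', Subgroup.map_map]
        congr 1
        · ext v
          rw [mem_map]
          constructor
          · rintro ⟨w, hw, rfl⟩
            exact h.conj_mem (mem_centralizer_singleton_iff.1 c.2) hw
          · intro hv
            refine ⟨(c : G)⁻¹ * v * c, ?_, by simp [mul_assoc]⟩
            have := h.conj_mem (c := (c : G)⁻¹) (Commute.inv_left (mem_centralizer_singleton_iff.1 c.2)).eq hv
            simpa using this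
        · congr 1
          ext v
          simp [mul_assoc]
      set D := E'.map (MulAut.conj u).toMonoidHom with hD
      have hDcard : Nat.card D = Nat.card E := by
        rw [hD, card_map_of_injective (MulAut.conj u).injective, ← hE'eq,
          card_map_of_injective (MulAut.conj (c : G)).injective]
      have hcgz : (c : G) * g * z * ((c : G) * g)⁻¹ = y := by simp only [y, hxdef]; group
      have hfam1 : Q.map (MulAut.conj u).toMonoidHom = Q' := by
        rw [← fam_eq h u, huz, hxdef, fam_eq h g]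
      have hfam2 : Q.map (MulAut.conj (u * ((c : G) * g))).toMonoidHom =
          Q.map (MulAut.conj (d * g)).toMonoidHom := by
        rw [← fam_eq h (u * ((c : G) * g)), ← fam_eq h (d * g)]
        congr 1
        calc u * ((c : G) * g) * z * (u * ((c : G) * g))⁻¹ = u * ((c : G) * g * z * ((c : G) * g)⁻¹) * u⁻¹ := by group
          _ = u * y * u⁻¹ := by rw [hcgz]
          _ = (k : G) * y * (k : G)⁻¹ := hky.symm
          _ = _ := by simp only [hd, y, hxdef]; group
      have hP' := pair_of h (g := (c : G) * g) (by rw [hcgz]; exact hyE.1) fun e =>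
        hyz (by rw [← hcgz, mem_centralizer_singleton_iff.1 e, mul_inv_cancel_right])
      have hy'Q : d * g * z * (d * g)⁻¹ ∈ Q := by
        have : d * g * z * (d * g)⁻¹ = (k : G) * y * (k : G)⁻¹ := by simp only [hd, y, hxdef]; group
        rw [this]
        exact h.conj_mem (mem_centralizer_singleton_iff.1 k.2) hyE.1
      have hDQ : ∀ v ∈ D, v ∈ Q' ∧ v ∈ Q.map (MulAut.conj (d * g)).toMonoidHom := by
        rintro _ ⟨e, he, rfl⟩
        refine ⟨hfam1 ▸ ⟨e, he.1, rfl⟩, hfam2 ▸ ?_⟩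
        obtain ⟨w, hw, hwe⟩ := he.2
        exact ⟨w, hw, by rw [← hwe]; simp [mul_assoc]⟩
      have hzD : z ∈ D := by
        obtain ⟨a₁, ha₁, e₁⟩ : z ∈ Q.map (MulAut.conj u).toMonoidHom := hfam1 ▸ P.zQ
        obtain ⟨a₂, ha₂, e₂⟩ : z ∈ Q.map (MulAut.conj (u * ((c : G) * g))).toMonoidHom :=
          hfam2 ▸ h.center_mem_conj hy'Q
        refine ⟨a₁, ⟨ha₁, a₂, ha₂, ?_⟩, e₁⟩
        refine (MulAut.conj u).injective ?_
        refine Eq.trans ?_ e₁.symm
        refine Eq.trans ?_ e₂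
        simp [mul_assoc]
      have hDC : D ≤ (centralizer ({z} : Set G)) := by
        intro v hv
        rw [mem_centralizer_singleton_iff]
        obtain ⟨e, he, rfl⟩ := hv
        obtain ⟨e₀, he₀, hez⟩ := hzD
        rw [← hez, ← map_mul, ← map_mul, E_comm hP' he he₀]
      have hDB : ∀ v ∈ D, v ∈ B := fun v hv => ⟨(hDQ v hv).1, hDC hv⟩
      have hconjB : ∀ v ∈ D, d⁻¹ * v * d ∈ B := by
        intro v hv
        obtain ⟨w, hw, e⟩ := (hDQ v hv).2
        refine ⟨⟨w, hw, ?_⟩, (mul_mem (mul_mem (inv_mem hdC) (hDC hv)) hdC :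
          d⁻¹ * v * d ∈ centralizer ({z} : Set G))⟩
        rw [← e]
        simp [mul_assoc]
      -- the map to the intersection of the two groups
      let Dc : Subgroup ↥(centralizer ({z} : Set G)) := D.subgroupOf (centralizer ({z} : Set G))
      let f : ↥Dc →* ↥φ.range := φ.rangeRestrict.comp Dc.subtype
      have hfr : ∀ v : ↥f.range, v.1 ∈ W ∧ s⁻¹ * v.1 * s ∈ W := by
        rintro ⟨_, v, rfl⟩
        have hv : ((v : ↥(centralizer ({z} : Set G))) : G) ∈ D := v.2
        refine ⟨(hWmem _).2 ⟨v.1, hDB _ hv, rfl⟩, (hWmem _).2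
          ⟨(⟨d, hdC⟩ : ↥(centralizer ({z} : Set G)))⁻¹ * v.1 * ⟨d, hdC⟩, hconjB _ hv, ?_⟩⟩
        have hdφ : φ ⟨d, hdC⟩ = φ k * s.1 := by
          rw [show (⟨d, hdC⟩ : ↥(centralizer ({z} : Set G))) = k * c from rfl, map_mul, hrep]
        have hcom := hkW _ ((hWmem _).2 ⟨v.1, hDB _ hv, rfl⟩ : φ.rangeRestrict v.1 ∈ W)
        rw [map_mul, map_mul, map_inv, hdφ]
        show (φ k * s.1)⁻¹ * φ v.1 * (φ k * s.1) = s.1⁻¹ * φ v.1 * s.1
        calc (φ k * s.1)⁻¹ * φ v.1 * (φ k * s.1) = s.1⁻¹ * ((φ k)⁻¹ * (φ v.1 * φ k)) * s.1 := by group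
          _ = _ := by rw [← (show φ k * φ v.1 = φ v.1 * φ k from hcom), inv_mul_cancel_left]
      set E2 := E ⊓ E.map (MulAut.conj (c : G)).toMonoidHom with hE2
      have hzE2 : z ∈ E2 := ⟨hzE, z, hzE, by simp [hcz]⟩
      have hker2 : Nat.card f.ker ≤ Nat.card E2 := by
        have hmem : ∀ v : ↥f.ker, (k : G)⁻¹ * ((v.1.1 : ↥(centralizer ({z} : Set G))) : G) * k ∈ E2 := by
          intro v
          have hv : ((v.1.1 : ↥(centralizer ({z} : Set G))) : G) ∈ D := v.1.2
          have hvQ : ((v.1.1 : ↥(centralizer ({z} : Set G))) : G) ∈ Q := (hphiQ v.1.1.2).2 (congrArg Subtype.val v.2)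
          refine ⟨hkE _ ⟨hvQ, (hDQ _ hv).1⟩, d⁻¹ * ((v.1.1 : ↥(centralizer ({z} : Set G))) : G) * d, ⟨?_, (hconjB _ hv).1⟩, ?_⟩
          · have := h.conj_mem (c := d⁻¹)
              (Commute.inv_left (mem_centralizer_singleton_iff.1 hdC)).eq hvQ
            simpa using this
          · simp [hd, mul_assoc]
        refine Nat.card_le_card_of_injective (fun v => (⟨_, hmem v⟩ : ↥E2)) fun a b e => ?_
        exact Subtype.ext (Subtype.ext (Subtype.ext (by simpa using congrArg Subtype.val e)))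
      have hE2card := card_clsSet hhg (inf_le_left.trans inf_le_left : E2 ≤ Q) hzE2
      have hE2le : Nat.card (clsSet Q E2) ≤ Nat.card {e : Vq Q // e ∈ S ∧ s⁻¹ • e ∈ S} := by
        have hmem : ∀ v : clsSet Q E2, (v : Vq Q) ∈ S ∧ s⁻¹ • (v : Vq Q) ∈ S := by
          rintro ⟨_, a, rfl, ha⟩
          refine ⟨(hSmem a).2 ha.1, ?_⟩
          rw [hsm s⁻¹ c⁻¹ (by rw [map_inv, hrep]; rfl), hSmem]
          obtain ⟨w, hw, hwa⟩ := ha.2
          show ((c⁻¹ : ↥(centralizer ({z} : Set G))) : G) * a * ((c⁻¹ : ↥(centralizer ({z} : Set G))) : G)⁻¹ ∈ E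
          rw [← hwa]
          simpa [mul_assoc] using hw
        exact Nat.card_le_card_of_injective (fun v => ⟨v.1, hmem v⟩) fun a b e =>
          Subtype.ext (congrArg (fun p : {e : Vq Q // e ∈ S ∧ s⁻¹ • e ∈ S} => (p : Vq Q)) e)
      have hrange : Nat.card f.range ≤ Nat.card {t : ↥φ.range // t ∈ W ∧ s⁻¹ * t * s ∈ W} :=
        Nat.card_le_card_of_injective (fun v => ⟨v.1, hfr v⟩) fun a b e =>
          Subtype.ext (congrArg (fun p : {t : ↥φ.range // t ∈ W ∧ s⁻¹ * t * s ∈ W} => (p : ↥φ.range)) e)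
      have hDc : Nat.card Dc = Nat.card f.range * Nat.card f.ker := by
        rw [card_eq_card_quotient_mul_card_subgroup f.ker,
          Nat.card_congr (QuotientGroup.quotientKerEquivRange f).toEquiv]
      rw [Nat.card_congr (subgroupOfEquivOfLe hDC).toEquiv, hDcard, hScard] at hDc
      have h1 := hker2.trans (hE2card.le.trans (Nat.mul_le_mul_left 2 hE2le))
      have h2 := Nat.mul_le_mul hrange h1
      rw [← hDc] at h2
      rw [mul_left_comm] at h2
      exact Nat.le_of_mul_le_mul_left h2 two_pos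
  exact bad.false

end CfsgLib.TriSix
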