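import Cfsg.Agent.TriSix.Conf

/-!
Involutions of `A₆` cannot all act with rank one on the commutator space of `τ`.
-/

set_option autoImplicit false
set_option linter.unusedSectionVars false

namespace CfsgLib.TriSix

variable {Hs : Subgroup Amb} {V : Type*} [AddCommGroup V] [DistribMulAction ↥Hs V]
  {q : V → ZMod 2} {β : V → V → ZMod 2} (K : Conf Hs V q β)
include K

/-- The data of a nontrivial rank-one involution. -/
theorem Conf.rank_one_data {g : ↥Hs} (hg : g * g = 1) (hg1 : g.1.1 = 1) (hR : K.R1 g)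
    (hne : ∃ v ∈ K.movD, K.N g v ≠ 0) :
    ∃ p ∈ K.movD, p ≠ 0 ∧ (∀ v ∈ K.movD, K.N g v ∈ K.line p) ∧ q p = 0 ∧ q (K.T p) = 0 ∧
      ∀ k ∈ K.movD, (K.N g k = 0 ↔ β k p = 0 ∧ β k (K.T p) = 0) := by
  obtain ⟨p, hp, him⟩ := hR
  obtain ⟨v₀, hv₀, hne₀⟩ := hne
  have hp0 : p ≠ 0 := fun e => hne₀ (by
    rcases him v₀ hv₀ with h | h | h | h
    · exact h
    all_goals simp [h, e, K.T_zero])
  obtain ⟨v₁, hv₁, hv₁p⟩ : ∃ v ∈ K.movD, K.N g v = p := by
    have hT := K.T_mem_D hv₀
    rcases him v₀ hv₀ with h | h | h | h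
    · exact absurd h hne₀
    · exact ⟨v₀, hv₀, h⟩
    · refine ⟨_, K.T_mem_D hT, ?_⟩
      rw [K.N_T hg1, K.N_T hg1, h, K.T3]
    · refine ⟨_, hT, ?_⟩
      rw [K.N_T hg1, h, ← K.TT_eq hp, K.T3]
  have hker : ∀ k ∈ K.movD, (K.N g k = 0 ↔ β k p = 0 ∧ β k (K.T p) = 0) := by
    intro k hk
    constructor
    · intro h0
      refine ⟨?_, ?_⟩
      · rw [← hv₁p, ← K.N_adjoint hg, h0, K.form.zero_left]
      · rw [← hv₁p, ← K.N_T hg1, ← K.N_adjoint hg, h0, K.form.zero_left]
    · rintro ⟨h1, h2⟩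
      have hNk : K.N g k ∈ K.movD := add_mem (K.smul_D hg1 hk) hk
      refine K.nondeg_D _ hNk fun w hw => ?_
      rw [K.N_adjoint hg]
      rcases him w hw with h | h | h | h <;> rw [h]
      · exact K.form.zero_right k
      · exact h1
      · exact h2
      · rw [K.form.add_right, h1, h2, add_zero]
  have hNp : K.N g p = 0 := by rw [← hv₁p, K.N_sq hg]
  have hpp := ((hker p hp).1 hNp).2
  have hq : q p = 0 := by
    have h1 : q (K.T (K.T p)) = q p := by rw [K.T_q, K.T_q]
    rw [K.TT_eq hp, K.form.q_add, K.T_q, hpp, add_zero, CharTwo.add_self_eq_zero] at h1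
    exact h1.symm
  exact ⟨p, hp, hp0, him, hq, by rw [K.T_q, hq], hker⟩

theorem Conf.line_q {p u : V} (hp : p ∈ K.movD) (hq : q p = 0) (hu : u ∈ K.line p) : q u = 0 := by
  rcases hu with rfl | rfl | rfl | rfl
  · exact K.form.q_zero
  · exact hq
  · rw [K.T_q, hq]
  · rw [← K.TT_eq hp, K.T_q, K.T_q, hq]

/-- If every involution has rank at most one, the alternating group is trivial on the space. -/
theorem Conf.trivOn_of_R1 (hR : ∀ g : Alt6, g * g = 1 → g ≠ 1 → K.R1 (K.ι g)) :
    K.TrivOn K.movD := by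
  classical
  haveI := K.finite
  by_contra hnt
  have hinvD : ∀ l : Alt6, ∀ v ∈ K.movD, K.ι l • v ∈ K.movD := fun l v hv => K.smul_D rfl hv
  have hne : ∀ g : Alt6, g ≠ 1 → ∃ v ∈ K.movD, K.N (K.ι g) v ≠ 0 := by
    intro g hg
    by_contra hno
    push Not at hno
    exact hnt (K.trivOn_of_fixed hinvD hg fun v hv => K.N_eq_zero.1 (hno v hv))
  obtain ⟨g, hg, hg1⟩ : ∃ g : Alt6, g * g = 1 ∧ g ≠ 1 := ⟨g₀, g₀_sq.1, g₀_sq.2⟩
  obtain ⟨h, hh, hh1, hhg, hgh⟩ := exists_partner hg hg1
  have hk : (g * h) * (g * h) = 1 := by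
    calc g * h * (g * h) = g * (h * g) * h := by group
      _ = g * (g * h) * h := by rw [hgh]
      _ = (g * g) * (h * h) := by group
      _ = 1 := by rw [hg, hh, one_mul]
  have hk1 : g * h ≠ 1 := fun e => hhg (by
    calc h = g * (g * h) := by rw [← mul_assoc, hg, one_mul]
      _ = g := by rw [e, mul_one])
  have sq : ∀ {a : Alt6}, a * a = 1 → K.ι a * K.ι a = 1 := fun e => by rw [← map_mul, e, map_one]
  obtain ⟨p, hp, hp0, hpi, hpq, hpTq, hpk⟩ := K.rank_one_data (sq hg) rfl (hR g hg hg1) (hne g hg1)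
  obtain ⟨r, hr, hr0, hri, -, -, hrk⟩ := K.rank_one_data (sq hh) rfl (hR h hh hh1) (hne h hh1)
  obtain ⟨s, hs, -, hsi, -, -, -⟩ := K.rank_one_data (sq hk) rfl (hR _ hk hk1) (hne _ hk1)
  set gg := K.ι g
  set hh' := K.ι h
  have hmul : ∀ v, K.N (K.ι (g * h)) v = gg • K.N hh' v + K.N gg v := by
    intro v
    rw [map_mul, K.N_apply, mul_smul, K.N_apply, K.N_apply, smul_add,
      show gg • hh' • v + gg • v + (gg • v + v) = gg • hh' • v + (gg • v + gg • v) + v by abel,
      K.form.two, add_zero]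
  have hcomm : ∀ v, gg • K.N hh' v = K.N hh' (gg • v) := by
    intro v
    rw [K.N_apply, K.N_apply, smul_add, ← mul_smul, ← mul_smul, ← map_mul, ← map_mul, hgh]
  have hcomm' : ∀ v, hh' • K.N gg v = K.N gg (hh' • v) := by
    intro v
    rw [K.N_apply, K.N_apply, smul_add, ← mul_smul, ← mul_smul, ← map_mul, ← map_mul, hgh]
  have lineT : ∀ {a b : V}, a ∈ K.movD → b ∈ K.line a → b ≠ 0 → K.line a ≤ K.line b := by
    intro a b ha hb hb0
    have hbD : b ∈ K.movD := K.line_le ha (K.T_mem_D ha) hb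
    refine le_of_eq (AddSubgroup.eq_of_le_of_card_ge (K.line_le hb (K.T_mem_line ha hb)) ?_).symm
    rw [K.card_line hbD hb0]
    by_cases ha0 : a = 0
    · subst ha0
      refine absurd ?_ hb0
      rcases hb with h | h | h | h <;> simp [h, K.T_zero]
    · rw [K.card_line ha ha0]
  by_cases hsame : r ∈ K.line p
  · -- equal centres: the two involutions agree
    have hK : ∀ k ∈ K.movD, K.N gg k = 0 ↔ K.N hh' k = 0 := by
      intro k hk
      rw [hpk k hk, hrk k hk]
      constructor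
      · rintro ⟨h1, h2⟩
        have hall : ∀ u ∈ K.line p, β k u = 0 := by
          rintro u (rfl | rfl | rfl | rfl)
          · exact K.form.zero_right k
          · exact h1
          · exact h2
          · rw [K.form.add_right, h1, h2, add_zero]
        exact ⟨hall r hsame, hall _ (K.T_mem_line hp hsame)⟩
      · rintro ⟨h1, h2⟩
        have hall : ∀ u ∈ K.line r, β k u = 0 := by
          rintro u (rfl | rfl | rfl | rfl)
          · exact K.form.zero_right k
          · exact h1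
          · exact h2
          · rw [K.form.add_right, h1, h2, add_zero]
        have hle := lineT hp hsame hr0
        exact ⟨hall p (hle (K.self_mem_line p)), hall _ (hle (K.T_mem_line' p))⟩
    have hline : ∀ v ∈ K.movD, K.N hh' v ∈ K.line p := fun v hv =>
      K.line_le hsame (K.T_mem_line hp hsame) (hri v hv)
    refine hnt (K.trivOn_of_fixed hinvD hk1 fun v hv => K.N_eq_zero.1 ?_)
    have hfix : gg • K.N hh' v = K.N hh' v := by
      refine K.N_eq_zero.1 ((hpk _ (K.line_le hp (K.T_mem_D hp) (hline v hv))).2 ?_)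
      have hb : ∀ u ∈ K.line p, β p u = 0 ∧ β (K.T p) u = 0 := by
        have hpp : β p (K.T p) = 0 := by
          have := K.form.q_add p (K.T p)
          rwa [K.line_q hp hpq (Or.inr (Or.inr (Or.inr rfl))), hpq, hpTq, add_zero, zero_add,
            eq_comm] at this
        have hpp' : β (K.T p) p = 0 := by rw [K.form.symm]; exact hpp
        rintro u (rfl | rfl | rfl | rfl) <;>
          simp [K.form.zero_right, K.form.self, K.form.add_right, hpp, hpp']
      exact ⟨by rw [K.form.symm]; exact (hb _ (hline v hv)).1,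
        by rw [K.form.symm]; exact (hb _ (hline v hv)).2⟩
    rw [hmul, hfix]
    -- both values solve the same equation on the line
    have hβ : ∀ w ∈ K.movD, ∀ (a : ↥Hs), a * a = 1 → a.1.1 = 1 → K.N a w ∈ K.line p → β w (K.N a w) = 0 := by
      intro w _ a _ _ hl
      have h1 : q (a • w) = q w := K.inv a w
      rw [show a • w = w + K.N a w by
        rw [K.N_apply, show w + (a • w + w) = a • w + (w + w) by abel, K.form.two, add_zero],
        K.form.q_add, K.line_q hp hpq hl, add_zero] at h1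
      exact add_eq_left.1 h1
    by_cases hv0 : K.N gg v = 0
    · rw [hv0, (hK v hv).1 hv0, add_zero]
    have hv0' : K.N hh' v ≠ 0 := fun e => hv0 ((hK v hv).2 e)
    have e1 := hβ v hv gg (sq hg) rfl (hpi v hv)
    have e2 := hβ v hv hh' (sq hh) rfl (hline v hv)
    by_contra hd
    have hd' : K.N gg v ≠ K.N hh' v := fun e => hd (by rw [e, K.form.two])
    have hnb : ¬ (β v p = 0 ∧ β v (K.T p) = 0) := fun e => hv0 ((hpk v hv).2 e)
    refine hnb ?_
    rcases hpi v hv with a | a | a | a <;> rcases hline v hv with b | b | b | b <;>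
      simp_all [K.form.add_right]
  · -- distinct centres: the product has both centres
    have hrp : p ∉ K.line r := fun h1 =>
      hsame (lineT hr h1 hp0 (K.self_mem_line r))
    have hnot : ∀ {a b : V}, a ∈ K.movD → a ≠ 0 → b ∈ K.movD → b ∉ K.line a →
        ∃ k ∈ K.movD, (β k a = 0 ∧ β k (K.T a) = 0) ∧ ¬ (β k b = 0 ∧ β k (K.T b) = 0) := by
      intro a b ha ha0 hb hab
      by_contra hno
      push Not at hno
      exact hab (K.mem_line_of_perp ha ha0 hb fun k hk h1 h2 => (hno k hk ⟨h1, h2⟩).1)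
    obtain ⟨k, hkD, hk0, hk1'⟩ := hnot hp hp0 hr hsame
    obtain ⟨k', hk'D, hk'0, hk'1⟩ := hnot hr hr0 hp hrp
    have hz1 : K.N gg k = 0 := (hpk k hkD).2 hk0
    have hnz1 : K.N hh' k ≠ 0 := fun e => hk1' ((hrk k hkD).1 e)
    have hz2 : K.N hh' k' = 0 := (hrk k' hk'D).2 hk'0
    have hnz2 : K.N gg k' ≠ 0 := fun e => hk'1 ((hpk k' hk'D).1 e)
    have e1 : K.N (K.ι (g * h)) k = K.N hh' k := by
      rw [hmul, hz1, add_zero, hcomm, K.N_eq_zero.1 hz1]
    have e2 : K.N (K.ι (g * h)) k' = K.N gg k' := by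
      rw [hmul, hz2, smul_zero, zero_add]
    have l1 : K.N hh' k ∈ K.line s := e1 ▸ hsi k hkD
    have l2 : K.N gg k' ∈ K.line s := e2 ▸ hsi k' hk'D
    have h3 : K.line s ≤ K.line (K.N hh' k) := lineT hs l1 hnz1
    have h4 : K.N hh' k ∈ K.line r := hri k hkD
    have h5 : K.N gg k' ∈ K.line r :=
      K.line_le h4 (K.T_mem_line hr h4) (h3 l2)
    have h6 := lineT hp (hpi k' hk'D) hnz2
    exact hrp (K.line_le h5 (K.T_mem_line hr h5) (h6 (K.self_mem_line p)))

end CfsgLib.TriSix
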